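import Mathlib
import Cfsg.Agent.Lib.ChevSub.Good
import Cfsg.Agent.Lib.ChevSub.Close
import Cfsg.Agent.Lib.Chev.RankOne
import Cfsg.Agent.S0801

/-!
# The highest root and the entry `x_{-κ,κ}`
-/

set_option autoImplicit false
set_option linter.unusedSectionVars false
set_option linter.unusedVariables false
set_option linter.unnecessarySimpa false

namespace Cfsg.Agent.Lib.ChevSub

open Cfsg Cfsg.Lie Matrix Cfsg.Agent.Lib.Chev Cfsg.Agent.Lib.Chev.Full Cfsg.Agent.Lib.Chev.Tri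
open Cfsg.Agent.Lib.ChevTransfer Cfsg.Agent.Lib.ChevAut.SubField
open Cfsg.Agent.Lib.ChevAut.ParabFit Cfsg.Agent.Lib.ChevInv Cfsg.Agent.Lib.ChevInv.CentG
open Cfsg.Agent.Lib.ChevAut.RootCent

variable {T : Tabs} {X : Extra} {R : RootTab} {D : ChevalleyDatum} (hF : Full T X R D)
variable {F : Type*} [Field F]

section top

variable {top : ℕ} (htop : top < D.nroots) (hmax : ∀ s < D.nroots, s ≤ top) (hpos : R.N ≤ top)
include hF htop hmax hpos

theorem top_comm_U {u : GL D.Idx F} (hu : u ∈ D.posUnipotent F) (t : F) :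
    u * hF.c.xG top t = hF.c.xG top t * u := by
  have hle : D.posUnipotent F ≤ Subgroup.centralizer {hF.c.xG top t} := by
    rw [ChevalleyDatum.posUnipotent, Subgroup.closure_le]
    rintro g ⟨r, c, hr, hg⟩
    rw [SetLike.mem_coe, Subgroup.mem_centralizer_singleton_iff]
    rw [hF.c.eq_xG hg]
    exact comm_pos hF htop hmax hpos hr t c
  exact Subgroup.mem_centralizer_singleton_iff.1 (hle hu)

/-- The levels. -/
theorem exists_phi_lev : ∃ (ℓ : D.Idx → ℕ) (d : ℕ) (M : ℤ), (∀ b, ℓ b < d) ∧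
    (∀ b, (ℓ b : ℤ) = gr R D hF.phiW b + M) ∧
    ∀ g ∈ D.posUnipotent F, ∃ hd : ∀ b, ℓ b < d, g ∈ UT (F := F) ℓ 0 d hd := by
  obtain ⟨ℓ, d, M, hd, hℓ⟩ := Full.exists_lev R D hF.phiW
  refine ⟨ℓ, d, M, hd, hℓ, ?_⟩
  intro g hg
  refine ⟨hd, ?_⟩
  rw [hF.U_eq_Uk] at hg
  refine closure_le_UT hF hd hℓ ?_ hg
  rintro s ⟨h1, h2⟩
  refine ⟨h2, ?_⟩
  have := hF.phi_pos h2 h1
  push_cast
  omega

theorem phi_le_top {s : ℕ} (hs : s < D.nroots) : R.lin D.rank hF.phiW s ≤ R.lin D.rank hF.phiW top := by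
  rcases (hmax s hs).lt_or_eq with h | h
  · exact (hF.phi_strict h htop).le
  · rw [h]

/-- `U` fixes the highest root vector. -/
theorem U_col_top {u : GL D.Idx F} (hu : u ∈ D.posUnipotent F) (row : D.Idx) :
    (u : Matrix D.Idx D.Idx F) row (Sum.inr ⟨top, htop⟩) = if row = Sum.inr ⟨top, htop⟩ then 1 else 0 := by
  obtain ⟨ℓ, d, M, hd, hℓ, hU⟩ := exists_phi_lev hF htop hmax hpos (F := F)
  obtain ⟨hd', hu'⟩ := hU u hu
  have h1 := mem_UT.1 hu'
  have h2 : ℓ row < ℓ (Sum.inr ⟨top, htop⟩) + (0 + 1) := by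
    have e1 := hℓ row
    have e2 : (ℓ (Sum.inr ⟨top, htop⟩) : ℤ) = R.lin D.rank hF.phiW top + M := hℓ (Sum.inr ⟨top, htop⟩)
    have hp := hF.phi_pos htop hpos
    have : gr R D hF.phiW row ≤ R.lin D.rank hF.phiW top := by
      cases row with
      | inl i =>
        rw [gr_inl]
        omega
      | inr s =>
        rw [gr_inr]
        exact phi_le_top hF htop hmax hpos s.2
    omega
  have h3 := h1 row _ h2
  rw [Matrix.sub_apply, sub_eq_zero] at h3
  rw [h3, Matrix.one_apply]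

theorem U_row_bot (hbot : D.neg top = 0) {u : GL D.Idx F} (hu : u ∈ D.posUnipotent F) (col : D.Idx) :
    (u : Matrix D.Idx D.Idx F) (Sum.inr ⟨0, by have := hF.neg_lt htop; omega⟩) col =
      if col = Sum.inr ⟨0, by have := hF.neg_lt htop; omega⟩ then 1 else 0 := by
  have h0 : 0 < D.nroots := by
    have := hF.neg_lt htop
    omega
  obtain ⟨ℓ, d, M, hd, hℓ, hU⟩ := exists_phi_lev hF htop hmax hpos (F := F)
  obtain ⟨hd', hu'⟩ := hU u hu
  have h1 := mem_UT.1 hu'
  have hN : 0 < R.N := by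
    have h2 := hF.two
    omega
  have h2 : ℓ (Sum.inr ⟨0, h0⟩) < ℓ col + (0 + 1) := by
    have e1 := hℓ col
    have e2 : (ℓ (Sum.inr ⟨0, h0⟩) : ℤ) = R.lin D.rank hF.phiW 0 + M := hℓ (Sum.inr ⟨0, h0⟩)
    have hp := hF.phi_neg (r := 0) hN
    have : R.lin D.rank hF.phiW 0 ≤ gr R D hF.phiW col := by
      cases col with
      | inl i =>
        rw [gr_inl]
        omega
      | inr s =>
        rw [gr_inr]
        rcases Nat.eq_zero_or_pos (s : ℕ) with h | h
        · rw [h]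
        · exact (hF.phi_strict h s.2).le
    omega
  have h3 := h1 _ col h2
  rw [Matrix.sub_apply, sub_eq_zero] at h3
  rw [h3, Matrix.one_apply]
  simp only [eq_comm]

omit hmax hpos htop in
/-- The Bruhat form. -/
theorem exists_form {x : GL D.Idx F} (hx : x ∈ D.group F) :
    ∃ u ∈ D.posUnipotent F, ∃ n ∈ D.monomialSubgroup F, ∃ u' ∈ D.posUnipotent F, x = u * n * u' := by
  obtain ⟨b, hb, n, b', hb', e⟩ := exists_bruhat hF hx
  obtain ⟨u1, hu1, h1, hh1, rfl⟩ := hF.mem_borel_iff.1 hb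
  obtain ⟨u2, hu2, h2, hh2, rfl⟩ := hF.mem_borel_iff.1 hb'
  refine ⟨u1, hu1, h1 * n.1 * h2, ?_, h2⁻¹ * u2 * h2, ?_, ?_⟩
  · exact mul_mem (mul_mem (hF.c.diagonal_le_monomial hh1) n.2) (hF.c.diagonal_le_monomial hh2)
  · have := (Subgroup.mem_normalizer_iff.1 (hF.diagonal_le_normalizer_U (inv_mem hh2)) u2).1 hu2
    simpa using this
  · rw [e]
    group

/-- The form with the actions. -/
theorem exists_top_form (hm : ChevMonoN.checkMono T X D = true) {x : GL D.Idx F} (hx : x ∈ D.group F) :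
    ∃ u ∈ D.posUnipotent F, ∃ n ∈ D.monomialSubgroup F, ∃ u' ∈ D.posUnipotent F,
      ∃ (σ : Equiv.Perm (Fin D.nroots)) (ν : Fin D.nroots → Fˣ), x = u * n * u' ∧
        hF.RootAct n σ ν ∧ ColAct n σ ν ∧
        (∀ t : F, x * hF.c.xG top t * x⁻¹ = u * hF.c.xG (σ ⟨top, htop⟩) ((ν ⟨top, htop⟩ : F) * t) * u⁻¹) ∧
        (∀ row, (x : Matrix D.Idx D.Idx F) row (Sum.inr ⟨top, htop⟩) =
          (u : Matrix D.Idx D.Idx F) row (Sum.inr (σ ⟨top, htop⟩)) * (ν ⟨top, htop⟩ : F)) := by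
  obtain ⟨u, hu, n, hn, u', hu', e⟩ := exists_form hF hx
  obtain ⟨σ, ν, h1, h2⟩ := exists_good hF hm hn
  refine ⟨u, hu, n, hn, u', hu', σ, ν, e, h1, h2, ?_, ?_⟩
  · intro t
    have h3 := h1.conj ⟨top, htop⟩ t
    have h4 := top_comm_U hF htop hmax hpos hu' t
    simp only at h3
    rw [← h3, e]
    have h5 : u * n * u' * hF.c.xG top t * (u * n * u')⁻¹ =
        u * n * (u' * hF.c.xG top t) * u'⁻¹ * n⁻¹ * u⁻¹ := by group
    rw [h5, h4]
    group
  · intro row
    rw [e, Units.val_mul, Matrix.mul_apply, Finset.sum_eq_single (Sum.inr ⟨top, htop⟩)]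
    · rw [U_col_top hF htop hmax hpos hu' (Sum.inr ⟨top, htop⟩), if_pos rfl, mul_one]
      rw [Units.val_mul, Matrix.mul_apply, Finset.sum_eq_single (Sum.inr (σ ⟨top, htop⟩))]
      · rw [h2 ⟨top, htop⟩ (Sum.inr (σ ⟨top, htop⟩)), if_pos rfl]
      · intro b _ hb
        rw [h2 ⟨top, htop⟩ b, if_neg hb, mul_zero]
      · intro h
        exact absurd (Finset.mem_univ _) h
    · intro b _ hb
      rw [U_col_top hF htop hmax hpos hu' b, if_neg hb, mul_zero]
    · intro h
      exact absurd (Finset.mem_univ _) h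

/-- The Dickson step. -/
theorem pair_lemma [Finite F] (hbot : D.neg top = 0) (h2 : (2 : F) ≠ 0) (H : Subgroup (GL D.Idx F))
    {u : GL D.Idx F} (hu : u ∈ D.posUnipotent F) {lam : F} (hlam : lam ≠ 0)
    (h1 : hF.c.xG top 1 ∈ H) (hb : u * hF.c.xG 0 lam * u⁻¹ ∈ H) :
    hF.c.xG top lam ∈ H ∨ lam ^ 2 = -1 := by
  classical
  have h0 : 0 < D.nroots := by
    have := hF.neg_lt htop
    omega
  have hneg0 : D.neg 0 = top := by
    have := hF.neg_neg htop
    rwa [hbot] at this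
  obtain ⟨φ, -, hφ⟩ := hF.exists_sl2_hom (F := F) h0
  rw [hneg0] at hφ
  let L : Subfield F := Subfield.closure {lam}
  let lamL : L := ⟨lam, Subfield.subset_closure rfl⟩
  haveI : Fintype L := Fintype.ofFinite _
  let incl : Matrix.SpecialLinearGroup (Fin 2) L →* Matrix.SpecialLinearGroup (Fin 2) F :=
    Matrix.SpecialLinearGroup.map L.subtype
  let ψ : Matrix.SpecialLinearGroup (Fin 2) L →* GL D.Idx F := (MulAut.conj u).toMonoidHom.comp (φ.comp incl)
  have hψ : ∀ g, ψ g = u * φ (incl g) * u⁻¹ := fun g => rfl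
  have h2L : (2 : L) ≠ 0 := by
    intro h
    apply h2
    have h' : L.subtype (2 : L) = L.subtype 0 := by rw [h]
    rwa [map_ofNat, map_zero] at h'
  have hlamL : lamL ≠ 0 := by
    intro h
    apply hlam
    exact congrArg (fun z : L => (z : F)) h
  have hgen : Subfield.closure ({lamL} : Set L) = ⊤ := by
    rw [eq_top_iff]
    rintro y -
    have h3 : (Subfield.closure ({lamL} : Set L)).map L.subtype = L := by
      rw [RingHom.map_field_closure, Set.image_singleton]
      rfl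
    have h4 : (y : F) ∈ (Subfield.closure ({lamL} : Set L)).map L.subtype := by
      rw [h3]
      exact y.2
    obtain ⟨z, hz, e⟩ := h4
    have : z = y := Subtype.ext e
    rwa [← this]
  have res := Cfsg.Agent.S0801.result (F := L) h2L lamL hlamL hgen
  rcases res with ⟨htopc, -⟩ | ⟨-, h, -⟩
  · left
    have hcl : Subgroup.closure {g : Matrix.SpecialLinearGroup (Fin 2) L | (g : Matrix (Fin 2) (Fin 2) L) = !![1, 0; 1, 1] ∨ (g : Matrix (Fin 2) (Fin 2) L) = !![1, lamL; 0, 1]} ≤ H.comap ψ := by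
      rw [Subgroup.closure_le]
      rintro g (hg | hg)
      · have e1 : ((incl g : Matrix.SpecialLinearGroup (Fin 2) F) : Matrix (Fin 2) (Fin 2) F) = !![1, 0; 1, 1] := by
          rw [Matrix.SpecialLinearGroup.map_apply_coe, hg]
          ext i j
          fin_cases i <;> fin_cases j <;> simp
        have e2 := (hφ (incl g) 1).2 e1
        have e3 : φ (incl g) = hF.c.xG top 1 := hF.c.eq_xG e2
        show ψ g ∈ H
        rw [hψ, e3, top_comm_U hF htop hmax hpos hu 1]
        simpa using h1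
      · have e1 : ((incl g : Matrix.SpecialLinearGroup (Fin 2) F) : Matrix (Fin 2) (Fin 2) F) = !![1, lam; 0, 1] := by
          rw [Matrix.SpecialLinearGroup.map_apply_coe, hg]
          ext i j
          fin_cases i <;> fin_cases j <;> simp [lamL]
        have e2 := (hφ (incl g) lam).1 e1
        have e3 : φ (incl g) = hF.c.xG 0 lam := hF.c.eq_xG e2
        show ψ g ∈ H
        rw [hψ, e3]
        exact hb
    rw [htopc] at hcl
    let g0 : Matrix.SpecialLinearGroup (Fin 2) L := ⟨!![1, 0; lamL, 1], by simp [Matrix.det_fin_two]⟩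
    have h5 : ψ g0 ∈ H := hcl (Subgroup.mem_top g0)
    have e1 : ((incl g0 : Matrix.SpecialLinearGroup (Fin 2) F) : Matrix (Fin 2) (Fin 2) F) = !![1, 0; lam, 1] := by
      rw [Matrix.SpecialLinearGroup.map_apply_coe]
      ext i j
      fin_cases i <;> fin_cases j <;> simp [g0, lamL]
    have e2 := (hφ (incl g0) lam).2 e1
    have e3 : φ (incl g0) = hF.c.xG top lam := hF.c.eq_xG e2
    rw [hψ, e3, top_comm_U hF htop hmax hpos hu lam] at h5
    simpa using h5
  · right
    have := congrArg (fun z : L => (z : F)) h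
    simpa using this

end top

end Cfsg.Agent.Lib.ChevSub
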