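import Mathlib
import Cfsg.Agent.Lib.ChevSub.Apex

/-!
# Entries of `x` against the highest root: from rationality of the entries to rationality of `x`
-/

set_option autoImplicit false
set_option linter.unusedSectionVars false
set_option linter.unusedVariables false
set_option linter.unnecessarySimpa false

namespace Cfsg.Agent.Lib.ChevSub

open Cfsg Cfsg.Lie Matrix Cfsg.Agent.Lib.Chev Cfsg.Agent.Lib.Chev.Full Cfsg.Agent.Lib.Chev.Tri
open Cfsg.Agent.Lib.ChevTransfer Cfsg.Agent.Lib.ChevAut.SubField
open Cfsg.Agent.Lib.ChevAut.ParabFit Cfsg.Agent.Lib.ChevInv Cfsg.Agent.Lib.ChevInv.CentG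
open Cfsg.Agent.Lib.ChevAut.RootCent

variable {T : Tabs} {X : Extra} {R : RootTab} {D : ChevalleyDatum} (hF : Full T X R D)
variable {F : Type*} [Field F]

/-! ### The polynomial form of `x_r(t)` -/

/-- The coefficient of a power. -/
def cf (k : ℕ) (l : List (ℕ × ℤ)) : ℤ := ((l.filter (fun km => km.1 = k)).map (fun km => km.2)).sum

theorem eval_cf (l : List (ℕ × ℤ)) (hl : ∀ km ∈ l, 1 ≤ km.1 ∧ km.1 ≤ 3) (t : F) :
    (l.map fun km => ((km.2 : ℤ) : F) * t ^ km.1).sum =
      ((cf 1 l : ℤ) : F) * t + ((cf 2 l : ℤ) : F) * t ^ 2 + ((cf 3 l : ℤ) : F) * t ^ 3 := by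
  induction l with
  | nil => simp [cf]
  | cons e l ih =>
    have h1 := ih (fun km hk => hl km (List.mem_cons_of_mem _ hk))
    have h2 := hl e (List.mem_cons_self)
    obtain ⟨k, m⟩ := e
    simp only at h2
    obtain ⟨h3, h4⟩ := h2
    have hk : k = 1 ∨ k = 2 ∨ k = 3 := by omega
    rw [List.map_cons, List.sum_cons, h1]
    unfold cf
    rcases hk with rfl | rfl | rfl <;> simp <;> ring

/-- The chain table has degree at most `3`, with degree `3` on the class `L` only. -/
def ChainT (D : ChevalleyDatum) (L : ℕ → Prop) : Prop :=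
  ∀ r < D.nroots, ∀ e ∈ (D.chain.getD r #[]).toList, e.2.size ≤ 2 ∨ (e.2.size ≤ 3 ∧ L e.1)

theorem chain_mem {r s u : ℕ} {km : ℕ × ℤ} (h : km ∈ D.chainCoeff r s u) :
    ∃ e ∈ (D.chain.getD r #[]).toList, e.1 = s ∧ 1 ≤ km.1 ∧ km.1 ≤ e.2.size := by
  unfold ChevalleyDatum.chainCoeff at h
  rw [List.mem_flatMap] at h
  obtain ⟨e, he, h1⟩ := h
  rw [List.mem_filter] at he
  rw [List.mem_map] at h1
  obtain ⟨q, hq, rfl⟩ := h1
  rw [List.mem_filter] at hq
  refine ⟨e, he.1, by simpa using he.2, by simp, ?_⟩
  have h2 := List.mem_zipIdx hq.1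
  simp at h2 ⊢
  omega

/-- The coefficient matrices. -/
def Cm (D : ChevalleyDatum) (F : Type*) [Field F] (r : Fin D.nroots) (k : ℕ) : Matrix D.Idx D.Idx F :=
  Matrix.of fun row col =>
    match col with
    | Sum.inl i =>
      (match row with
       | Sum.inl _ => 0
       | Sum.inr u => if u = r ∧ k = 1 then - (((D.cartanSR.getD i.val #[]).getD r.val 0 : ℤ) : F) else 0)
    | Sum.inr s =>
      if s = r then 0
      else if s.val = D.negIdx.getD r.val 0 then
        (match row with
         | Sum.inl i => if k = 1 then (((D.coroot.getD r.val #[]).getD i.val 0 : ℤ) : F) else 0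
         | Sum.inr u => if u = s then 0 else if u = r ∧ k = 2 then -1 else 0)
      else
        (match row with
         | Sum.inl _ => 0
         | Sum.inr u => ((cf k (D.chainCoeff r.val s.val u.val) : ℤ) : F))

theorem x_poly {L : ℕ → Prop} (hC : ChainT D L) (r : Fin D.nroots) (t : F) :
    D.xMat F r t = 1 + t • Cm D F r 1 + t ^ 2 • Cm D F r 2 + t ^ 3 • Cm D F r 3 := by
  ext row col
  simp only [Matrix.add_apply, Matrix.smul_apply, smul_eq_mul]
  cases col with
  | inl i =>
    cases row with
    | inl i' =>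
      simp only [ChevalleyDatum.xMat, Cm, Matrix.of_apply]
      by_cases h : i' = i
      · subst h
        simp
      · have : (Sum.inl i' : D.Idx) ≠ Sum.inl i := fun e => h (Sum.inl.inj e)
        simp [Matrix.one_apply_ne this, h]
    | inr u =>
      have : (Sum.inr u : D.Idx) ≠ Sum.inl i := by simp
      simp only [ChevalleyDatum.xMat, Cm, Matrix.of_apply, Matrix.one_apply_ne this]
      by_cases h : u = r
      · simp [h]
        ring
      · simp [h]
  | inr s =>
    by_cases h1 : s = r
    · subst h1
      cases row with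
      | inl i =>
        have : (Sum.inl i : D.Idx) ≠ Sum.inr s := by simp
        simp [ChevalleyDatum.xMat, Cm, Matrix.one_apply_ne this]
      | inr u =>
        by_cases h : u = s
        · subst h
          simp [ChevalleyDatum.xMat, Cm]
        · have : (Sum.inr u : D.Idx) ≠ Sum.inr s := fun e => h (Sum.inr.inj e)
          simp [ChevalleyDatum.xMat, Cm, Matrix.one_apply_ne this, h]
    · by_cases h2 : s.val = D.negIdx.getD r.val 0
      · simp only [ChevalleyDatum.xMat, Cm, Matrix.of_apply, if_neg h1, if_pos h2]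
        cases row with
        | inl i =>
          have : (Sum.inl i : D.Idx) ≠ Sum.inr s := by simp
          simp [Matrix.one_apply_ne this]
          ring
        | inr u =>
          by_cases h : u = s
          · subst h
            simp [Ne.symm h1]
          · have : (Sum.inr u : D.Idx) ≠ Sum.inr s := fun e => h (Sum.inr.inj e)
            by_cases h3 : u = r
            · have h4 : r ≠ s := fun e => h (h3.trans e)
              simp [Matrix.one_apply_ne this, h, h3, h4]
              try ring
            · simp [Matrix.one_apply_ne this, h, h3]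
      · cases row with
        | inl i =>
          have : (Sum.inl i : D.Idx) ≠ Sum.inr s := by simp
          simp only [ChevalleyDatum.xMat, Cm, Matrix.of_apply, if_neg h1, if_neg h2]
          simp [Matrix.one_apply_ne this]
        | inr u =>
          have hd : ∀ km ∈ D.chainCoeff r.val s.val u.val, 1 ≤ km.1 ∧ km.1 ≤ 3 := by
            intro km hk
            obtain ⟨e, he, -, h3, h4⟩ := chain_mem hk
            refine ⟨h3, ?_⟩
            rcases hC r r.2 e he with h5 | ⟨h5, -⟩ <;> omega
          have e1 := eval_cf (D.chainCoeff r.val s.val u.val) hd t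
          simp only [ChevalleyDatum.xMat, Cm, Matrix.of_apply, if_neg h1, if_neg h2]
          rw [e1, Matrix.one_apply]
          simp only [Sum.inr.injEq]
          ring

theorem C3_zero {L : ℕ → Prop} (hC : ChainT D L) (r : Fin D.nroots) (y : D.Idx → F)
    (hy : ∀ s : Fin D.nroots, L s → y (Sum.inr s) = 0) : Cm D F r 3 *ᵥ y = 0 := by
  funext row
  rw [Pi.zero_apply, Matrix.mulVec, dotProduct]
  apply Finset.sum_eq_zero
  intro col _
  cases col with
  | inl i =>
    cases row with
    | inl i' => simp [Cm]
    | inr u => simp [Cm]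
  | inr s =>
    by_cases hL : L s
    · rw [hy s hL, mul_zero]
    · have h0 : Cm D F r 3 row (Sum.inr s) = 0 := by
        simp only [Cm, Matrix.of_apply]
        by_cases h1 : s = r
        · simp [h1]
        · by_cases h2 : s.val = D.negIdx.getD r.val 0
          · simp only [if_neg h1, if_pos h2]
            cases row with
            | inl i => simp
            | inr u => simp
          · simp only [if_neg h1, if_neg h2]
            cases row with
            | inl i => rfl
            | inr u =>
              simp only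
              have : cf 3 (D.chainCoeff r.val s.val u.val) = 0 := by
                unfold cf
                rw [List.filter_eq_nil_iff.2]
                · simp
                · intro km hk
                  obtain ⟨e, he, h3, -, h4⟩ := chain_mem hk
                  rcases hC r r.2 e he with h5 | ⟨-, h5⟩
                  · simp only [decide_eq_true_eq]
                    omega
                  · exact absurd (h3 ▸ h5) hL
              rw [this]
              simp
      rw [h0, zero_mul]

/-! ### Vectors annihilated by the rational translates of the lowest coordinate -/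

/-- `y` is annihilated by the functionals `e_{-κ}^* ∘ a`, `a` rational. -/
def AnnM (D : ChevalleyDatum) (f : F ≃+* F) (h0 : 0 < D.nroots) (y : D.Idx → F) : Prop :=
  ∀ a ∈ D.group F, glMap D f a = a →
    ((a : Matrix D.Idx D.Idx F) *ᵥ y) (Sum.inr ⟨0, h0⟩) = 0

section ann

variable (f : F ≃+* F) (h0 : 0 < D.nroots) {L : ℕ → Prop}

include hF

/-- The coordinates in the class `L` of an annihilated vector vanish. -/
theorem ann_root (hm : ChevMonoN.checkMono T X D = true)
    (hdown : ∀ r < D.nroots, L r → r ≠ 0 → ∃ i < D.rank, X.wf i r < r ∧ L (X.wf i r)) :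
    ∀ (r : ℕ) (hr : r < D.nroots), L r → ∀ y : D.Idx → F, AnnM D f h0 y → y (Sum.inr ⟨r, hr⟩) = 0 := by
  intro r
  induction r using Nat.strong_induction_on with
  | _ r ih =>
    intro hr hL y hy
    by_cases hr0 : r = 0
    · subst hr0
      have := hy 1 (one_mem _) (map_one _)
      simpa using this
    · obtain ⟨i, hi, h1, h2⟩ := hdown r hr hL hr0
      have hw := hF.wf_lt hi hr
      have hy' : AnnM D f h0 (((hF.nS i : GL D.Idx F) : Matrix D.Idx D.Idx F) *ᵥ y) := by
        intro a ha hfa
        have := hy (a * hF.nS i) (mul_mem ha (hF.nS_mem_group hi)) (by rw [map_mul, hfa, sig_nS hF f])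
        rw [Units.val_mul, ← Matrix.mulVec_mulVec] at this
        exact this
      have h3 := ih _ h1 hw h2 _ hy'
      rw [Matrix.mulVec, dotProduct, Finset.sum_eq_single (Sum.inr ⟨r, hr⟩)] at h3
      · have h4 : ((hF.nS i : GL D.Idx F) : Matrix D.Idx D.Idx F) (Sum.inr ⟨X.wf i r, hw⟩) (Sum.inr ⟨r, hr⟩) =
            ((hF.etaU (F := F) hi ⟨r, hr⟩ : Fˣ) : F) := by
          have h5 := colAct_nS hF (F := F) hm hi ⟨r, hr⟩ (Sum.inr (hF.wPerm hi ⟨r, hr⟩))
          rw [if_pos rfl] at h5
          exact h5
        rw [h4] at h3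
        exact (mul_eq_zero.1 h3).resolve_left (Units.ne_zero _)
      · intro b _ hb
        cases b with
        | inl j =>
          rw [hF.coe_nS, ChevMonoN.nMat_h (hF.c.sound F) hF.c.rank_eq hm hi j]
          simp
        | inr s =>
          have h4 := colAct_nS hF (F := F) hm hi s (Sum.inr ⟨X.wf i r, hw⟩)
          rw [h4, if_neg, zero_mul]
          intro e
          apply hb
          have e2 : X.wf i r = X.wf i s := congrArg Fin.val (Sum.inr.inj e)
          have e3 : r = s := by
            have e4 := hF.wf_wf hi hr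
            have e5 := hF.wf_wf hi s.2
            rw [e2, e5] at e4
            exact e4.symm
          congr 1
          exact Fin.ext e3.symm
      · intro h
        exact absurd (Finset.mem_univ _) h

/-- Invariance under a root element. -/
theorem ann_x (hm : ChevMonoN.checkMono T X D = true) (h2 : (2 : F) ≠ 0) (hC : ChainT D L)
    (hdown : ∀ r < D.nroots, L r → r ≠ 0 → ∃ i < D.rank, X.wf i r < r ∧ L (X.wf i r))
    {y : D.Idx → F} (hy : AnnM D f h0 y) {r : ℕ} (hr : r < D.nroots) (t : F) :
    AnnM D f h0 (D.x F r t *ᵥ y) := by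
  intro a ha hfa
  have hx : ∀ t : F, D.x F r t = D.xMat F ⟨r, hr⟩ t := fun t => by simp [ChevalleyDatum.x, hr]
  have h3 := C3_zero hC ⟨r, hr⟩ y (fun s hs => ann_root hF f h0 hm hdown s s.2 hs y hy)
  set v1 := Cm D F ⟨r, hr⟩ 1 *ᵥ y with hv1
  set v2 := Cm D F ⟨r, hr⟩ 2 *ᵥ y with hv2
  have hexp : ∀ t : F, D.x F r t *ᵥ y = y + t • v1 + t ^ 2 • v2 := by
    intro t
    rw [hx, x_poly hC, Matrix.add_mulVec, Matrix.add_mulVec, Matrix.add_mulVec, Matrix.one_mulVec,
      Matrix.smul_mulVec, Matrix.smul_mulVec, Matrix.smul_mulVec, h3, smul_zero, add_zero]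
  set A := (a : Matrix D.Idx D.Idx F) with hA
  set z : D.Idx := Sum.inr ⟨0, h0⟩ with hz
  have hval : ∀ t : F, (A *ᵥ (D.x F r t *ᵥ y)) z = (A *ᵥ y) z + t * (A *ᵥ v1) z + t ^ 2 * (A *ᵥ v2) z := by
    intro t
    rw [hexp, Matrix.mulVec_add, Matrix.mulVec_add, Matrix.mulVec_smul, Matrix.mulVec_smul]
    simp
  have hA0 : (A *ᵥ y) z = 0 := hy a ha hfa
  have hrat : ∀ τ : F, f τ = τ → (A *ᵥ (D.x F r τ *ᵥ y)) z = 0 := by
    intro τ hτ
    have := hy (a * hF.c.xG r τ) (mul_mem ha (hF.c.xG_mem_group hr τ)) (by rw [map_mul, hfa, sig_xG hF, hτ])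
    rw [Units.val_mul, ← Matrix.mulVec_mulVec] at this
    exact this
  have h1a := hrat 1 (map_one f)
  have h1b := hrat (-1) (by simp)
  rw [hval, hA0] at h1a h1b
  have e2 : (2 : F) * (A *ᵥ v2) z = 0 := by linear_combination h1a + h1b
  have e3 : (A *ᵥ v2) z = 0 := (mul_eq_zero.1 e2).resolve_left h2
  have e4 : (A *ᵥ v1) z = 0 := by
    rw [e3] at h1a
    linear_combination h1a
  show (A *ᵥ (D.x F r t *ᵥ y)) z = 0
  rw [hval, hA0, e3, e4]
  ring

/-- Invariance under the group. -/
theorem ann_group (hm : ChevMonoN.checkMono T X D = true) (h2 : (2 : F) ≠ 0) (hC : ChainT D L)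
    (hdown : ∀ r < D.nroots, L r → r ≠ 0 → ∃ i < D.rank, X.wf i r < r ∧ L (X.wf i r))
    {g : GL D.Idx F} (hg : g ∈ D.group F) :
    ∀ y : D.Idx → F, AnnM D f h0 y → AnnM D f h0 ((g : Matrix D.Idx D.Idx F) *ᵥ y) := by
  have key : ∀ g ∈ D.group F, (∀ y : D.Idx → F, AnnM D f h0 y → AnnM D f h0 ((g : Matrix D.Idx D.Idx F) *ᵥ y)) ∧
      (∀ y : D.Idx → F, AnnM D f h0 y → AnnM D f h0 (((g⁻¹ : GL D.Idx F) : Matrix D.Idx D.Idx F) *ᵥ y)) := by
    intro g hg
    induction hg using Subgroup.closure_induction with
    | mem x hx =>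
      obtain ⟨r, t, hx⟩ := hx
      have e1 : x = hF.c.xG r t := by
        apply Units.ext
        rw [hx, Checks.coe_xG]
        simp [ChevalleyDatum.x]
      subst e1
      constructor
      · intro y hy
        exact ann_x hF f h0 hm h2 hC hdown hy r.2 t
      · intro y hy
        rw [hF.c.xG_inv]
        exact ann_x hF f h0 hm h2 hC hdown hy r.2 (-t)
    | one =>
      constructor <;> intro y hy <;> simpa using hy
    | mul a b _ _ ha hb =>
      constructor
      · intro y hy
        rw [Units.val_mul, ← Matrix.mulVec_mulVec]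
        exact ha.1 _ (hb.1 _ hy)
      · intro y hy
        rw [_root_.mul_inv_rev, Units.val_mul, ← Matrix.mulVec_mulVec]
        exact hb.2 _ (ha.2 _ hy)
    | inv a _ ha =>
      constructor
      · exact ha.2
      · intro y hy
        rw [inv_inv]
        exact ha.1 _ hy
  exact (key g hg).1

end ann

end Cfsg.Agent.Lib.ChevSub
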