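import Mathlib
import Cfsg.Agent.Lib.ChevSub.ApexB

/-!
# Overgroups in odd characteristic: the main reduction
-/

set_option autoImplicit false
set_option linter.unusedSectionVars false
set_option linter.unusedVariables false
set_option linter.unnecessarySimpa false

namespace Cfsg.Agent.Lib.ChevSub

open Cfsg Cfsg.Lie Matrix Cfsg.Agent.Lib.Chev Cfsg.Agent.Lib.Chev.Full Cfsg.Agent.Lib.Chev.Tri
open Cfsg.Agent.Lib.ChevTransfer Cfsg.Agent.Lib.ChevAut.SubField
open Cfsg.Agent.Lib.ChevAut.ParabFit Cfsg.Agent.Lib.ChevInv Cfsg.Agent.Lib.ChevInv.CentG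
open Cfsg.Agent.Lib.ChevAut.RootCent Equiv

variable {T : Tabs} {X : Extra} {R : RootTab} {D : ChevalleyDatum} (hF : Full T X R D)
variable {F : Type*} [Field F]

include hF

section top

variable {top j0 : ℕ} (htop : top < D.nroots) (hmax : ∀ s < D.nroots, s ≤ top) (hpos : R.N ≤ top)
include htop hmax hpos

theorem stab_top (hj0' : j0 < D.rank) (hcart0' : 0 < D.cartan j0 top)
    (hcart' : ∀ j < D.rank, j ≠ j0 → D.cartan j top = 0) :
    ∀ (k : ℕ) (n : ↥(D.monomialSubgroup F)), invF R D (hF.rhoN F n) = k →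
      hF.rhoN F n ⟨top, htop⟩ = ⟨top, htop⟩ → n.1 ∈ Yg D F j0 ⊔ D.diagonalSubgroup F := by
  intro k
  induction k with
  | zero =>
    intro n hn _
    exact Subgroup.mem_sup_right (hF.mem_diagonal_of_rhoN_eq_one (hF.eq_one_of_invF (hF.rhoN_mem_Wk n) hn))
  | succ k ih =>
    intro n hn hfix
    obtain ⟨i, hi, -, hneg⟩ := hF.exists_simple_neg (hF.rhoN_mem_Wk n) (by omega)
    have h1 := (hF.invF_mul (hF.rhoN_mem_Wk n) hi).2 hneg
    have hij : i ≠ j0 := by
      rintro rfl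
      have hw : X.wf i top < D.nroots := hF.wf_lt hi htop
      have hlin := Cfsg.Agent.Lib.ChevAut.rc_linear hF (hF.rhoN_mem_Wk n) ⟨top, htop⟩
        ⟨D.simple i, hF.simple_lt hi⟩ ⟨X.wf i top, hw⟩ (- D.cartan i top) (by
        intro j hj
        simp only
        rw [hF.wf_rc hi htop hj, hF.simple_rc hi hj]
        by_cases h : i = j
        · subst h
          simp only [if_true]
          ring
        · simp only [if_neg h, if_neg (Ne.symm h)]
          ring)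
      rw [hfix] at hlin
      have h2 := lin_of_rc (R := R) hF.phiW hlin
      have h3 := hF.phi_neg hneg
      simp only at h2
      have h4 := hmax _ (hF.rhoN F n ⟨X.wf i top, hw⟩).2
      have h5 : R.lin D.rank hF.phiW top < R.lin D.rank hF.phiW ((hF.rhoN F n ⟨X.wf i top, hw⟩ : Fin D.nroots) : ℕ) := by
        rw [h2]
        have : 0 < - D.cartan i top * R.lin D.rank hF.phiW ((hF.rhoN F n ⟨D.simple i, hF.simple_lt hi⟩ : Fin D.nroots) : ℕ) :=
          mul_pos_of_neg_of_neg (by omega) h3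
        omega
      have h6 := (hF.phi_lt_iff htop (hF.rhoN F n ⟨X.wf i top, hw⟩).2).1 h5
      omega
    have hc0 : D.cartan i top = 0 := hcart' i hi hij
    have hwf : X.wf i top = top := by
      apply lin_eq_top hF htop (hF.wf_lt hi htop)
      rw [Cfsg.Agent.Lib.ChevAut.ParabFit.lin_wf hF hi htop, hc0]
      simp
    let n₂ : ↥(D.monomialSubgroup F) := n * (hF.nN hi)⁻¹
    have hsq : hF.rhoN F n₂ = hF.rhoN F n * hF.wPerm hi := by
      rw [map_mul, map_inv, hF.rhoN_nN, hF.wPerm_inv]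
    have hfix2 : hF.rhoN F n₂ ⟨top, htop⟩ = ⟨top, htop⟩ := by
      rw [hsq, Perm.mul_apply]
      have : hF.wPerm hi ⟨top, htop⟩ = ⟨top, htop⟩ := Fin.ext hwf
      rw [this, hfix]
    have h2 := ih n₂ (by rw [hsq]; omega) hfix2
    have h4 : n.1 = n₂.1 * hF.nS i := by
      show n.1 = n.1 * (hF.nS i)⁻¹ * hF.nS i
      group
    rw [h4]
    exact Subgroup.mul_mem _ h2 (Subgroup.mem_sup_left (nS_mem_Yg hF hi hij))

theorem U_diag {u : GL D.Idx F} (hu : u ∈ D.posUnipotent F) (i : D.Idx) :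
    (u : Matrix D.Idx D.Idx F) i i = 1 := by
  obtain ⟨ℓ, d, M, hd, hℓ, hU⟩ := exists_phi_lev hF htop hmax hpos (F := F)
  obtain ⟨hd', hu'⟩ := hU u hu
  have h3 := mem_UT.1 hu' i i (by omega)
  rw [Matrix.sub_apply, sub_eq_zero] at h3
  rw [h3, Matrix.one_apply_eq]

omit htop hmax hpos in
theorem Yg_le_parabolic (hj0 : j0 < D.rank) : Yg D F j0 ≤ D.parabolicSubgroup F {j | j ≠ j0} := by
  rw [Yg, rootClosure, Subgroup.closure_le]
  rintro g ⟨r, t, hr, hg⟩
  rw [SetLike.mem_coe, hF.c.eq_xG hg]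
  rcases hr with hr | ⟨j, hj, hne, rfl⟩
  · exact hF.borel_le_parabolic _ (U_le_B hF (hF.xG_mem_U hr.1 ((hF.isPos_iff).1 hr).2 t))
  · apply hF.xG_mem_parabolic
    rw [hF.inRootSub_iff]
    refine ⟨hF.neg_lt (hF.simple_lt hj), ?_⟩
    intro k hk hkJ
    have hk0 : k = j0 := by
      by_contra h
      exact hkJ h
    subst hk0
    rw [hF.rc_neg (hF.simple_lt hj) hk, hF.simple_rc hj hk, if_neg hne]
    simp

section Ov

variable (f : F ≃+* F) (H : Subgroup (GL D.Idx F)) (hHG : H ≤ D.group F)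
  (hM : ∀ g ∈ D.group F, glMap D f g = g → g ∈ H)
  (hNS : ∀ u ∈ H, u ∈ D.posUnipotent F → glMap D f u = u)

include hHG hM hNS

theorem entry_dichotomy [Finite F] (hm : ChevMonoN.checkMono T X D = true) (h2 : (2 : F) ≠ 0)
    (h0 : 0 < D.nroots) (hbot : D.neg top = 0) {x : GL D.Idx F} (hx : x ∈ H) :
    f ((x : Matrix D.Idx D.Idx F) (Sum.inr ⟨0, h0⟩) (Sum.inr ⟨top, htop⟩)) =
        (x : Matrix D.Idx D.Idx F) (Sum.inr ⟨0, h0⟩) (Sum.inr ⟨top, htop⟩) ∨
      (((x : Matrix D.Idx D.Idx F) (Sum.inr ⟨0, h0⟩) (Sum.inr ⟨top, htop⟩)) ^ 2 = -1 ∧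
        ∀ τ : F, f τ = τ → τ ≠ 0 → τ ^ 2 = 1) := by
  obtain ⟨u, hu, n, hn, u', hu', σ, ν, e, h1, h3, hconj, hcol⟩ :=
    exists_top_form hF htop hmax hpos hm (hHG hx)
  set c := (x : Matrix D.Idx D.Idx F) (Sum.inr ⟨0, h0⟩) (Sum.inr ⟨top, htop⟩) with hc
  have hc2 : c = (u : Matrix D.Idx D.Idx F) (Sum.inr ⟨0, h0⟩) (Sum.inr (σ ⟨top, htop⟩)) * (ν ⟨top, htop⟩ : F) :=
    hcol _
  rw [U_row_bot hF htop hmax hpos hbot hu] at hc2
  by_cases hs : σ ⟨top, htop⟩ = ⟨0, h0⟩
  · rw [hs, if_pos rfl, one_mul] at hc2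
    by_cases hfc : f c = c
    · exact Or.inl hfc
    · right
      have key : ∀ τ : F, f τ = τ → τ ≠ 0 → (c * τ) ^ 2 = -1 := by
        intro τ hτ hτ0
        have hxτ : hF.c.xG top τ ∈ H := x_rat hF f H hM htop hτ
        have h4 := mul_mem (mul_mem hx hxτ) (inv_mem hx)
        rw [hconj τ, hs, ← hc2] at h4
        have hc0 : c ≠ 0 := by
          rw [hc2]
          exact Units.ne_zero _
        rcases pair_lemma hF htop hmax hpos hbot h2 H hu (mul_ne_zero hc0 hτ0)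
          (x_rat hF f H hM htop (map_one f)) h4 with h5 | h5
        · exfalso
          have h6 := hNS _ h5 (hF.xG_mem_U htop hpos _)
          rw [sig_xG hF] at h6
          have h7 := hF.xG_param_inj htop h6
          rw [map_mul, hτ] at h7
          exact hfc (mul_right_cancel₀ hτ0 h7)
        · exact h5
      have h6 := key 1 (map_one f) one_ne_zero
      rw [mul_one] at h6
      refine ⟨h6, ?_⟩
      intro τ hτ hτ0
      have h7 := key τ hτ hτ0
      rw [mul_pow, h6] at h7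
      linear_combination -h7
  · have hne : ¬ ((Sum.inr (σ ⟨top, htop⟩) : D.Idx) = Sum.inr ⟨0, h0⟩) := fun e => hs (Sum.inr.inj e)
    rw [if_neg hne, zero_mul] at hc2
    left
    rw [hc2, map_zero]

theorem fixed_of_entries (hT2 : T2Tab R D) (hm : ChevMonoN.checkMono T X D = true) (h2 : (2 : F) ≠ 0)
    (h0 : 0 < D.nroots) (hbot : D.neg top = 0) {L : ℕ → Prop} (hC : ChainT D L)
    (hdown : ∀ r < D.nroots, L r → r ≠ 0 → ∃ i < D.rank, X.wf i r < r ∧ L (X.wf i r))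
    (hup : ∀ r < D.nroots, L r → ∀ i < D.rank, L (X.wf i r)) (hLtop : L top)
    (hj0 : j0 < D.rank) (hcart0 : 0 < D.cartan j0 top) (hcart : ∀ j < D.rank, j ≠ j0 → D.cartan j top = 0)
    {x : GL D.Idx F} (hxH : x ∈ H)
    (hent : ∀ a ∈ D.group F, glMap D f a = a →
      f (((a * x : GL D.Idx F) : Matrix D.Idx D.Idx F) (Sum.inr ⟨0, h0⟩) (Sum.inr ⟨top, htop⟩)) =
        ((a * x : GL D.Idx F) : Matrix D.Idx D.Idx F) (Sum.inr ⟨0, h0⟩) (Sum.inr ⟨top, htop⟩)) :
    glMap D f x = x := by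
  have hxG := hHG hxH
  set e : D.Idx := Sum.inr ⟨top, htop⟩ with he
  let y : D.Idx → F := fun j => f ((x : Matrix D.Idx D.Idx F) j e) - (x : Matrix D.Idx D.Idx F) j e
  have hy : AnnM D f h0 y := by
    intro a ha hfa
    have h1 := hent a ha hfa
    have hfa' : ∀ i j, f ((a : Matrix D.Idx D.Idx F) i j) = (a : Matrix D.Idx D.Idx F) i j := by
      intro i j
      have := congrArg (fun g : GL D.Idx F => (g : Matrix D.Idx D.Idx F) i j) hfa
      simpa [glMap_val] using this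
    rw [Units.val_mul, Matrix.mul_apply, map_sum] at h1
    simp only [map_mul, hfa'] at h1
    simp only [Matrix.mulVec, dotProduct, y, mul_sub, Finset.sum_sub_distrib]
    rw [h1, sub_self]
  set g : GL D.Idx F := x⁻¹ * glMap D f x with hg
  have hgG : g ∈ D.group F := mul_mem (inv_mem hxG) (sig_group f hxG)
  set y' : D.Idx → F := ((x⁻¹ : GL D.Idx F) : Matrix D.Idx D.Idx F) *ᵥ y with hy'
  have hy'A : AnnM D f h0 y' := ann_group hF f h0 hm h2 hC hdown (inv_mem hxG) y hy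
  have hval : ∀ row, (g : Matrix D.Idx D.Idx F) row e = (1 : Matrix D.Idx D.Idx F) row e + y' row := by
    intro row
    have h1 : ((x⁻¹ * x : GL D.Idx F) : Matrix D.Idx D.Idx F) row e = (1 : Matrix D.Idx D.Idx F) row e := by
      rw [inv_mul_cancel]
      rfl
    rw [← h1, hg, hy']
    rw [Units.val_mul, Units.val_mul, Matrix.mul_apply, Matrix.mul_apply]
    simp only [Matrix.mulVec, dotProduct, y, glMap_val, Matrix.map_apply]
    rw [← Finset.sum_add_distrib]
    apply Finset.sum_congr rfl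
    intro j _
    ring
  obtain ⟨u, hu, n, hn, u', hu', σ, ν, eg, h1, h3, hconj, hcol⟩ :=
    exists_top_form hF htop hmax hpos hm hgG
  have hrho : hF.rhoN F ⟨n, hn⟩ = σ := hF.rhoN_eq (g := ⟨n, hn⟩) h1
  have hW := hF.rhoN_mem_Wk ⟨n, hn⟩
  rw [hrho] at hW
  have hwk : ∀ τ ∈ hF.Wk Set.univ, ∀ r : Fin D.nroots, L r ↔ L (τ r) := by
    intro τ hτ
    induction hτ using Subgroup.closure_induction with
    | mem x hx =>
      obtain ⟨i, hi, -, rfl⟩ := hx
      intro r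
      constructor
      · intro hr
        exact hup r r.2 hr i hi
      · intro hr
        have := hup _ (hF.wf_lt hi r.2) hr i hi
        rwa [hF.wf_wf hi r.2] at this
    | one => intro r; rfl
    | mul a b _ _ ha hb =>
      intro r
      rw [hb r, ha (b r)]
      rfl
    | inv a _ ha =>
      intro r
      rw [ha (a⁻¹ r)]
      simp
  have hLσ : L (σ ⟨top, htop⟩) := (hwk σ hW ⟨top, htop⟩).1 hLtop
  have hσ : σ ⟨top, htop⟩ = ⟨top, htop⟩ := by
    by_contra hne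
    have h5 := hcol (Sum.inr (σ ⟨top, htop⟩))
    rw [U_diag hF htop hmax hpos hu, one_mul, hval] at h5
    have h6 : (1 : Matrix D.Idx D.Idx F) (Sum.inr (σ ⟨top, htop⟩)) e = 0 :=
      Matrix.one_apply_ne (fun e' => hne (Sum.inr.inj e'))
    have h7 := ann_root hF f h0 hm hdown _ (σ ⟨top, htop⟩).2 hLσ y' hy'A
    have h8 : y' (Sum.inr (σ ⟨top, htop⟩)) = 0 := h7
    rw [h6, h8, add_zero] at h5
    exact Units.ne_zero _ h5.symm
  have hnY := stab_top hF htop hmax hpos hj0 hcart0 hcart _ ⟨n, hn⟩ rfl (by rw [hrho]; exact hσ)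
  have hnP : n ∈ D.parabolicSubgroup F {j | j ≠ j0} := by
    have hle : Yg D F j0 ⊔ D.diagonalSubgroup F ≤ D.parabolicSubgroup F {j | j ≠ j0} :=
      sup_le (Yg_le_parabolic hF hj0) (le_trans hF.c.diagonal_le_borel (hF.borel_le_parabolic _))
    exact hle hnY
  have hgP : g ∈ D.parabolicSubgroup F {j | j ≠ j0} := by
    rw [eg]
    exact mul_mem (mul_mem (hF.borel_le_parabolic _ (U_le_B hF hu)) hnP) (hF.borel_le_parabolic _ (U_le_B hF hu'))
  obtain ⟨a, ha, hfa, hP⟩ := rat_parabolic hF f {j | j ≠ j0} hxG hgP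
  have hax : a⁻¹ * x ∈ H := mul_mem (inv_mem (hM a ha hfa)) hxH
  have h9 := fixed_of_parabolic hF f H hHG hM hNS hT2 hj0 (k := j0) (J := {j | j ≠ j0}) (by simp) hax hP
  rw [map_mul, map_inv, hfa] at h9
  exact mul_left_cancel h9

/-- The reduction: only the entries with square `-1` remain. -/
theorem fixed_main [Finite F] (hT2 : T2Tab R D) (hm : ChevMonoN.checkMono T X D = true) (h2 : (2 : F) ≠ 0)
    (h0 : 0 < D.nroots) (hbot : D.neg top = 0) {L : ℕ → Prop} (hC : ChainT D L)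
    (hdown : ∀ r < D.nroots, L r → r ≠ 0 → ∃ i < D.rank, X.wf i r < r ∧ L (X.wf i r))
    (hup : ∀ r < D.nroots, L r → ∀ i < D.rank, L (X.wf i r)) (hLtop : L top)
    (hj0 : j0 < D.rank) (hcart0 : 0 < D.cartan j0 top) (hcart : ∀ j < D.rank, j ≠ j0 → D.cartan j top = 0)
    (hE : ∀ x ∈ H, ((x : Matrix D.Idx D.Idx F) (Sum.inr ⟨0, h0⟩) (Sum.inr ⟨top, htop⟩)) ^ 2 = -1 →
      f ((x : Matrix D.Idx D.Idx F) (Sum.inr ⟨0, h0⟩) (Sum.inr ⟨top, htop⟩)) ≠
        (x : Matrix D.Idx D.Idx F) (Sum.inr ⟨0, h0⟩) (Sum.inr ⟨top, htop⟩) →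
      (∀ τ : F, f τ = τ → τ ≠ 0 → τ ^ 2 = 1) → False)
    {x : GL D.Idx F} (hxH : x ∈ H) : glMap D f x = x := by
  apply fixed_of_entries hF htop hmax hpos f H hHG hM hNS hT2 hm h2 h0 hbot hC hdown hup hLtop hj0 hcart0 hcart hxH
  intro a ha hfa
  have hax : a * x ∈ H := mul_mem (hM a ha hfa) hxH
  rcases entry_dichotomy hF htop hmax hpos f H hHG hM hNS hm h2 h0 hbot hax with h | ⟨h3, h4⟩
  · exact h
  · by_contra hne
    exact hE _ hax h3 hne h4

end Ov

end top

end Cfsg.Agent.Lib.ChevSub
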