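import Mathlib
import Cfsg.Agent.Lib.ChevSub.ApexC

/-!
# The exceptional entries with square `-1`: the generic case
-/

set_option autoImplicit false
set_option linter.unusedSectionVars false
set_option linter.unusedVariables false
set_option linter.unnecessarySimpa false

namespace Cfsg.Agent.Lib.ChevSub

open Cfsg Cfsg.Lie Matrix Cfsg.Agent.Lib.Chev Cfsg.Agent.Lib.Chev.Full Cfsg.Agent.Lib.Chev.Tri
open Cfsg.Agent.Lib.ChevTransfer Cfsg.Agent.Lib.ChevAut.SubField
open Cfsg.Agent.Lib.ChevAut.ParabFit Cfsg.Agent.Lib.ChevInv Cfsg.Agent.Lib.ChevInv.CentG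
open Cfsg.Agent.Lib.ChevAut.RootCent Equiv

variable {T : Tabs} {X : Extra} {R : RootTab} {D : ChevalleyDatum} (hF : Full T X R D)
variable {F : Type*} [Field F]

/-- The table facts for the coordinate at a simple root. -/
structure ETab0 (R : RootTab) (D : ChevalleyDatum) (j0 : ℕ) : Prop where
  hj0 : j0 < D.rank
  h1 : 1 < D.nroots
  chain2 : D.chainCoeff (D.simple j0) 0 1 = [(1, -1)]
  n3 : 0 ≠ D.neg (D.simple j0)
  n4 : 0 ≠ D.simple j0
  rc : ∀ i < D.rank, R.rcAt 1 i = R.rcAt 0 i + R.rcAt (D.simple j0) i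
  pos : ∀ r < D.nroots, R.N ≤ r → (∀ i < D.rank, i ≠ j0 → R.rcAt r i = 0) → r = D.simple j0

/-- The table facts for the exceptional case. -/
structure ETab (R : RootTab) (D : ChevalleyDatum) (X : Extra) (j0 b1 : ℕ) : Prop extends ETab0 R D j0 where
  hb1 : b1 < D.nroots
  hb1N : R.N ≤ b1
  chain1 : D.chainCoeff (D.neg (D.simple j0)) 1 0 = [(1, -1)]
  chain1' : ∀ s < D.nroots, s ≠ 0 → s ≠ 1 → s ≠ D.neg (D.simple j0) → s ≠ D.simple j0 →
    D.chainCoeff (D.neg (D.simple j0)) s 0 = []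
  chain0 : D.chainCoeff (D.neg (D.simple j0)) 0 0 = []
  n1 : 1 ≠ D.neg (D.simple j0)
  n2 : 1 ≠ D.simple j0
  comm : ∀ s < D.nroots, R.N ≤ s → s ≠ D.simple j0 → s ≠ b1 → D.commTerms b1 s = []
  comm0 : D.commTerms 0 b1 = [(D.neg (D.simple j0), -1, 1, 1)]
  comm1 : D.commTerms b1 (D.neg (D.simple j0)) = []
  comm2 : D.commTerms 0 (D.neg (D.simple j0)) = []
  wf0 : X.wf j0 (D.neg (D.simple j0)) = D.simple j0
  n5 : b1 ≠ 0
  n6 : D.neg (D.simple j0) ≠ b1
  n7 : D.neg (D.simple j0) ≠ D.neg b1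
  n8 : b1 ≠ D.simple j0

/-- The level used. -/
def aL (j0 : ℕ) : ℕ → ℤ := fun j => if j = j0 then 1 else 2

/-- Entries of the root elements. -/
theorem x_gen_entry (hF : Full T X R D) {r : ℕ} (hr : r < D.nroots) (t : F) {u c : Fin D.nroots}
    (h1 : (c : ℕ) ≠ r) (h2 : (c : ℕ) ≠ D.neg r) :
    D.x F r t (Sum.inr u) (Sum.inr c) = (if u = c then 1 else 0) +
      ((D.chainCoeff r c u).map fun km => ((km.2 : ℤ) : F) * t ^ km.1).sum := by
  have hx : D.x F r t = D.xMat F ⟨r, hr⟩ t := by simp [ChevalleyDatum.x, hr]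
  rw [hx]
  have hne : c ≠ ⟨r, hr⟩ := fun e => h1 (by rw [e])
  have hneg : D.neg r = D.negIdx.getD r 0 := rfl
  rw [hneg] at h2
  show (if c = (⟨r, hr⟩ : Fin D.nroots) then (if u = (⟨r, hr⟩ : Fin D.nroots) then (1 : F) else 0)
    else if (c : ℕ) = D.negIdx.getD r 0 then (if u = c then (1 : F) else if u = (⟨r, hr⟩ : Fin D.nroots) then -(t ^ 2) else 0)
    else (if u = c then 1 else 0) + ((D.chainCoeff r c u).map fun km => ((km.2 : ℤ) : F) * t ^ km.1).sum) = _
  rw [if_neg hne, if_neg h2]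

section

include hF

variable {j0 b1 : ℕ}

theorem lin_aL_simple (hE : ETab0 R D j0) : R.lin D.rank (aL j0) (D.simple j0) = 1 := by
  unfold RootTab.lin
  rw [Finset.sum_eq_single j0]
  · rw [hF.simple_rc hE.hj0 hE.hj0]
    simp [aL]
  · intro b hb hne
    rw [hF.simple_rc hE.hj0 (Finset.mem_range.1 hb), if_neg (Ne.symm hne), mul_zero]
  · intro h
    exact absurd (Finset.mem_range.2 hE.hj0) h

theorem lin_aL_one (hE : ETab0 R D j0) :
    R.lin D.rank (aL j0) 1 = R.lin D.rank (aL j0) 0 + 1 := by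
  have h := lin_aL_simple hF hE
  rw [← h]
  unfold RootTab.lin
  rw [← Finset.sum_add_distrib]
  apply Finset.sum_congr rfl
  intro j hj
  rw [hE.rc j (Finset.mem_range.1 hj)]
  ring

theorem lin_aL_QU (hE : ETab0 R D j0) {s : ℕ} (hs : QU D {j0} s) : 2 ≤ R.lin D.rank (aL j0) s := by
  obtain ⟨h1, h2, k, hk, hkJ, h3⟩ := hF.QU_spec hs
  have hnn : ∀ j ∈ Finset.range D.rank, 0 ≤ aL j0 j * R.rcAt s j := by
    intro j hj
    apply mul_nonneg
    · unfold aL
      split_ifs <;> norm_num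
    · exact hF.rc_nonneg h1 h2 (Finset.mem_range.1 hj)
  have h4 := Finset.single_le_sum hnn (Finset.mem_range.2 hk)
  have h5 : aL j0 k = 2 := by
    unfold aL
    have h6 : k ≠ j0 := by simpa using hkJ
    rw [if_neg h6]
  rw [h5] at h4
  unfold RootTab.lin
  omega

/-- The Levi part of `U`. -/
theorem exists_split (hE : ETab0 R D j0) {u : GL D.Idx F} (hu : u ∈ D.posUnipotent F) :
    ∃ z : F, ∃ q ∈ rootClosure D F (QU D {j0}), u = hF.c.xG (D.simple j0) z * q := by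
  obtain ⟨a, ha, q, hq, rfl⟩ := hF.exists_factor (fun r => r = D.simple j0) (QU D {j0}) (by
    intro r hr
    by_cases h : r = D.simple j0
    · exact Or.inl h
    · refine Or.inr ⟨hr, ?_⟩
      intro h2
      obtain ⟨h3, h4⟩ := (hF.inRootSub_iff).1 h2
      exact h (hE.pos r h3 ((hF.isPos_iff).1 hr).2 (fun i hi hne => h4 i hi hne))) hu
  clear hu
  have : ∃ z : F, a = hF.c.xG (D.simple j0) z := by
    unfold rootClosure at ha
    induction ha using Subgroup.closure_induction with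
    | mem x hx =>
      obtain ⟨r, t, rfl, hx⟩ := hx
      exact ⟨t, hF.c.eq_xG hx⟩
    | one => exact ⟨0, by simp⟩
    | mul a b _ _ ha hb =>
      obtain ⟨z, rfl⟩ := ha
      obtain ⟨z', rfl⟩ := hb
      exact ⟨z + z', hF.c.xG_add _ _ _⟩
    | inv a _ ha =>
      obtain ⟨z, rfl⟩ := ha
      exact ⟨-z, hF.c.xG_inv _ _⟩
  obtain ⟨z, rfl⟩ := this
  exact ⟨z, q, hq, rfl⟩

/-- The entry of `Q` at level one vanishes. -/
theorem Q_entry (hE : ETab0 R D j0) {q : GL D.Idx F} (hq : q ∈ rootClosure D F (QU D {j0})) :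
    (q : Matrix D.Idx D.Idx F) (Sum.inr ⟨1, hE.h1⟩) (Sum.inr ⟨0, by have := hE.h1; omega⟩) = 0 := by
  have h00 : 0 < D.nroots := by
    have := hE.h1
    omega
  obtain ⟨ℓ, d, M, hd, hℓ⟩ := Full.exists_lev R D (aL j0)
  have hle : rootClosure D F (QU D {j0}) ≤ UT (F := F) ℓ 1 d hd :=
    closure_le_UT hF hd hℓ (fun s hs => ⟨(hF.QU_spec hs).1, by
      have := lin_aL_QU hF hE hs
      push_cast
      omega⟩)
  have h1 := mem_UT.1 (hle hq)
  have e1 : (ℓ (Sum.inr ⟨1, hE.h1⟩) : ℤ) = R.lin D.rank (aL j0) 1 + M := hℓ (Sum.inr ⟨1, hE.h1⟩)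
  have e2 : (ℓ (Sum.inr ⟨0, h00⟩) : ℤ) = R.lin D.rank (aL j0) 0 + M := hℓ (Sum.inr ⟨0, h00⟩)
  have e3 := lin_aL_one hF hE
  have h2 := h1 (Sum.inr ⟨1, hE.h1⟩) (Sum.inr ⟨0, h00⟩) (by omega)
  rw [Matrix.sub_apply, Matrix.one_apply_ne (by simp), sub_zero] at h2
  exact h2

/-- The entry of `x_{a0}(z) q`. -/
theorem split_entry (hE : ETab0 R D j0) (z : F) {q : GL D.Idx F} (hq : q ∈ rootClosure D F (QU D {j0})) :
    ((hF.c.xG (D.simple j0) z * q : GL D.Idx F) : Matrix D.Idx D.Idx F)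
      (Sum.inr ⟨1, hE.h1⟩) (Sum.inr ⟨0, by have := hE.h1; omega⟩) = - z := by
  have h00 : 0 < D.nroots := by
    have := hE.h1
    omega
  obtain ⟨ℓ, d, M, hd, hℓ⟩ := Full.exists_lev R D (aL j0)
  have hle : rootClosure D F (QU D {j0}) ≤ UT (F := F) ℓ 1 d hd :=
    closure_le_UT hF hd hℓ (fun s hs => ⟨(hF.QU_spec hs).1, by
      have := lin_aL_QU hF hE hs
      push_cast
      omega⟩)
  have h1 := mem_UT.1 (hle hq)
  have e1 : (ℓ (Sum.inr ⟨1, hE.h1⟩) : ℤ) = R.lin D.rank (aL j0) 1 + M := hℓ (Sum.inr ⟨1, hE.h1⟩)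
  have e2 : (ℓ (Sum.inr ⟨0, h00⟩) : ℤ) = R.lin D.rank (aL j0) 0 + M := hℓ (Sum.inr ⟨0, h00⟩)
  have e3 := lin_aL_one hF hE
  have hxJ := x_sub_mem hF hℓ (hF.simple_lt hE.hj0) (by rw [lin_aL_simple hF hE]; norm_num) z
    (m := 1) (by rw [lin_aL_simple hF hE]; norm_num)
  have h00' : q.1 (Sum.inr ⟨0, h00⟩) (Sum.inr ⟨0, h00⟩) = 1 := by
    have := h1 (Sum.inr ⟨0, h00⟩) (Sum.inr ⟨0, h00⟩) (by omega)
    rw [Matrix.sub_apply, sub_eq_zero, Matrix.one_apply_eq] at this
    exact this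
  have hent : D.x F (D.simple j0) z (Sum.inr ⟨1, hE.h1⟩) (Sum.inr ⟨0, h00⟩) = -z := by
    rw [x_gen_entry hF (hF.simple_lt hE.hj0) z hE.n4 ?_]
    · show (if (⟨1, hE.h1⟩ : Fin D.nroots) = ⟨0, h00⟩ then (1 : F) else 0) +
        ((D.chainCoeff (D.simple j0) 0 1).map fun km => ((km.2 : ℤ) : F) * z ^ km.1).sum = _
      rw [hE.chain2, if_neg (by simp)]
      simp
    · exact hE.n3
  rw [Units.val_mul, Matrix.mul_apply, Finset.sum_eq_single (Sum.inr ⟨0, h00⟩)]
  · rw [Checks.coe_xG, hent, h00', mul_one]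
  · intro b _ hb
    by_cases hb1 : b = Sum.inr ⟨1, hE.h1⟩
    · subst hb1
      rw [Q_entry hF hE hq, mul_zero]
    · have h5 : (D.x F (D.simple j0) z) (Sum.inr ⟨1, hE.h1⟩) b = 0 ∨ q.1 b (Sum.inr ⟨0, h00⟩) = 0 := by
        by_cases hlev : ℓ (Sum.inr ⟨1, hE.h1⟩) < ℓ b + 1
        · left
          have := hxJ (Sum.inr ⟨1, hE.h1⟩) b hlev
          rw [Matrix.sub_apply, Matrix.one_apply_ne (fun e => hb1 e.symm), sub_zero] at this
          exact this
        · right
          have := h1 b (Sum.inr ⟨0, h00⟩) (by omega)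
          rw [Matrix.sub_apply, Matrix.one_apply_ne hb, sub_zero] at this
          exact this
      rcases h5 with h5 | h5
      · rw [Checks.coe_xG, h5, zero_mul]
      · rw [h5, mul_zero]
  · intro h
    exact absurd (Finset.mem_univ _) h

/-- The coordinate at the simple root of a rational element. -/
theorem coord_fixed (hE : ETab0 R D j0) (f : F ≃+* F) {d : F} {q : GL D.Idx F}
    (hq : q ∈ rootClosure D F (QU D {j0}))
    (hfix : glMap D f (hF.c.xG (D.simple j0) d * q) = hF.c.xG (D.simple j0) d * q) : f d = d := by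
  rw [map_mul, sig_xG hF] at hfix
  have hq2 := sig_rootClosure hF f hq
  have hδ : hF.c.xG (D.simple j0) (f d - d) ∈ rootClosure D F (QU D {j0}) := by
    have h7 := mul_mem hq (inv_mem hq2)
    have e1 : q * (glMap D f q)⁻¹ = (hF.c.xG (D.simple j0) d)⁻¹ * hF.c.xG (D.simple j0) (f d) := by
      have e2 : glMap D f q = (hF.c.xG (D.simple j0) (f d))⁻¹ * (hF.c.xG (D.simple j0) d * q) := by
        rw [← hfix]
        group
      rw [e2]
      group
    rw [e1, hF.c.xG_inv, hF.c.xG_add] at h7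
    have e9 : f d - d = -d + f d := by ring
    rw [e9]
    exact h7
  have hent := Q_entry hF hE hδ
  have hent2 := split_entry hF hE (f d - d) (one_mem _)
  rw [mul_one, hent] at hent2
  have : f d - d = 0 := by
    have h5 := hent2.symm
    rwa [neg_eq_zero] at h5
  exact sub_eq_zero.1 this

/-- The row `0` of `x_{-a0}(t)`. -/
theorem row0_entry (hE : ETab R D X j0 b1) (t : F) (v : D.Idx → F) :
    ((D.x F (D.neg (D.simple j0)) t) *ᵥ v) (Sum.inr ⟨0, by have := hE.h1; omega⟩) =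
      v (Sum.inr ⟨0, by have := hE.h1; omega⟩) + (- t) * v (Sum.inr ⟨1, hE.h1⟩) := by
  have h00 : 0 < D.nroots := by
    have := hE.h1
    omega
  have hs := hF.simple_lt hE.hj0
  have hn := hF.neg_lt hs
  have hneg2 : D.neg (D.neg (D.simple j0)) = D.simple j0 := hF.neg_neg hs
  have e0 : D.x F (D.neg (D.simple j0)) t (Sum.inr ⟨0, h00⟩) (Sum.inr ⟨0, h00⟩) = 1 := by
    rw [x_gen_entry hF hn t hE.n3 (by rw [hneg2]; exact hE.n4)]
    have : D.chainCoeff (D.neg (D.simple j0)) 0 0 = [] := hE.chain0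
    simp [this]
  have e1 : D.x F (D.neg (D.simple j0)) t (Sum.inr ⟨0, h00⟩) (Sum.inr ⟨1, hE.h1⟩) = - t := by
    rw [x_gen_entry hF hn t hE.n1 (by rw [hneg2]; exact hE.n2)]
    show (if (⟨0, h00⟩ : Fin D.nroots) = ⟨1, hE.h1⟩ then (1 : F) else 0) +
      ((D.chainCoeff (D.neg (D.simple j0)) 1 0).map fun km => ((km.2 : ℤ) : F) * t ^ km.1).sum = _
    rw [hE.chain1, if_neg (by simp)]
    simp
  rw [Matrix.mulVec, dotProduct, Finset.sum_eq_add (Sum.inr ⟨0, h00⟩) (Sum.inr ⟨1, hE.h1⟩) (by simp)]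
  · rw [e0, e1, one_mul]
  · intro b _ hb
    obtain ⟨h3, h4⟩ := hb
    cases b with
    | inl i =>
      have hx : D.x F (D.neg (D.simple j0)) t = D.xMat F ⟨_, hn⟩ t := by simp [ChevalleyDatum.x, hn]
      rw [hx]
      have : (⟨0, h00⟩ : Fin D.nroots) ≠ ⟨_, hn⟩ := fun e => hE.n3 (congrArg Fin.val e)
      simp [ChevalleyDatum.xMat, this]
    | inr s =>
      have hs0 : (s : ℕ) ≠ 0 := fun e => h3 (by
        congr 1
        exact Fin.ext e)
      have hs1 : (s : ℕ) ≠ 1 := fun e => h4 (by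
        congr 1
        exact Fin.ext e)
      by_cases h5 : (s : ℕ) = D.neg (D.simple j0)
      · have hx : D.x F (D.neg (D.simple j0)) t = D.xMat F ⟨_, hn⟩ t := by simp [ChevalleyDatum.x, hn]
        have h6 : s = ⟨_, hn⟩ := Fin.ext h5
        have h7 : (⟨0, h00⟩ : Fin D.nroots) ≠ ⟨_, hn⟩ := fun e => hE.n3 (congrArg Fin.val e)
        rw [hx, h6]
        simp [ChevalleyDatum.xMat, h7]
      · by_cases h6 : (s : ℕ) = D.simple j0
        · have hx : D.x F (D.neg (D.simple j0)) t = D.xMat F ⟨_, hn⟩ t := by simp [ChevalleyDatum.x, hn]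
          rw [hx]
          have h7 : s ≠ ⟨_, hn⟩ := fun e => h5 (congrArg Fin.val e)
          have h8 : (s : ℕ) = D.negIdx.getD (D.neg (D.simple j0)) 0 := by
            rw [h6]
            exact hneg2.symm
          have h9 : (⟨0, h00⟩ : Fin D.nroots) ≠ ⟨_, hn⟩ := fun e => hE.n3 (congrArg Fin.val e)
          have h10 : (⟨0, h00⟩ : Fin D.nroots) ≠ s := fun e => hs0 (congrArg Fin.val e.symm)
          show (if s = (⟨_, hn⟩ : Fin D.nroots) then (if (⟨0, h00⟩ : Fin D.nroots) = (⟨_, hn⟩ : Fin D.nroots) then (1 : F) else 0)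
            else if (s : ℕ) = D.negIdx.getD (D.neg (D.simple j0)) 0 then (if (⟨0, h00⟩ : Fin D.nroots) = s then (1 : F) else if (⟨0, h00⟩ : Fin D.nroots) = (⟨_, hn⟩ : Fin D.nroots) then -(t ^ 2) else 0)
            else (if (⟨0, h00⟩ : Fin D.nroots) = s then 1 else 0) + ((D.chainCoeff (D.neg (D.simple j0)) s 0).map fun km => ((km.2 : ℤ) : F) * t ^ km.1).sum) * _ = _
          rw [if_neg h7, if_pos h8, if_neg h10, if_neg h9, zero_mul]
        · rw [x_gen_entry hF hn t h5 (by rw [hneg2]; exact h6)]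
          have h7 := hE.chain1' s s.2 hs0 hs1 h5 h6
          have h8 : (⟨0, h00⟩ : Fin D.nroots) ≠ s := fun e => hs0 (congrArg Fin.val e.symm)
          show ((if (⟨0, h00⟩ : Fin D.nroots) = s then (1 : F) else 0) +
            ((D.chainCoeff (D.neg (D.simple j0)) s 0).map fun km => ((km.2 : ℤ) : F) * t ^ km.1).sum) * _ = _
          rw [h7, if_neg h8]
          simp
  · intro h
    exact absurd (Finset.mem_univ _) h
  · intro h
    exact absurd (Finset.mem_univ _) h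

/-- The algebra of the rationality of `z`. -/
theorem z_fixed {c z : F} (f : F ≃+* F) (h2 : (2 : F) ≠ 0) (hc : c ^ 2 = -1)
    (hτ : ∀ τ : F, f τ = τ → τ ≠ 0 → τ ^ 2 = 1)
    (h1 : f (c * (1 + 1 * z)) = c * (1 + 1 * z) ∨ (c * (1 + 1 * z)) ^ 2 = -1)
    (h3 : f (c * (1 + (-1) * z)) = c * (1 + (-1) * z) ∨ (c * (1 + (-1) * z)) ^ 2 = -1) : f z = z := by
  have hc0 : c ≠ 0 := by
    rintro rfl
    have h : (0 : F) ^ 2 = -1 := hc
    have h' : (1 : F) = 0 := by
      have : (0 : F) ^ 2 = 0 := by ring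
      rw [this] at h
      have h4 : (1 : F) = -(-1) := by ring
      rw [h4, ← h]
      ring
    exact one_ne_zero h'
  have key : ∀ w : F, (f (c * (1 + w)) = c * (1 + w) ∨ (c * (1 + w)) ^ 2 = -1) →
      w = -1 ∨ w = 0 ∨ w = -2 ∨ (1 + w) ^ 2 = -1 := by
    intro w hw
    rcases hw with hw | hw
    · by_cases h0 : c * (1 + w) = 0
      · left
        have := (mul_eq_zero.1 h0).resolve_left hc0
        linear_combination this
      · have h5 := hτ _ hw h0
        right; right; right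
        rw [mul_pow, hc] at h5
        linear_combination -h5
    · rw [mul_pow, hc] at hw
      have h5 : w * (w + 2) = 0 := by linear_combination -hw
      rcases mul_eq_zero.1 h5 with h6 | h6
      · right; left; exact h6
      · right; right; left
        linear_combination h6
  have hfix : ∀ w : F, (w = -1 ∨ w = 0 ∨ w = -2) → f w = w := by
    rintro w (rfl | rfl | rfl)
    · simp
    · simp
    · rw [map_neg, map_ofNat]
  have e1 : ∀ w : F, c * (1 + 1 * w) = c * (1 + w) := fun w => by ring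
  have e2 : ∀ w : F, c * (1 + (-1) * w) = c * (1 + (-w)) := fun w => by ring
  rw [e1] at h1
  rw [e2] at h3
  rcases key z h1 with h | h | h | h4
  · exact hfix z (Or.inl h)
  · exact hfix z (Or.inr (Or.inl h))
  · exact hfix z (Or.inr (Or.inr h))
  · rcases key (-z) h3 with h | h | h | h5
    · have := hfix (-z) (Or.inl h)
      rw [map_neg] at this
      exact neg_injective this
    · have := hfix (-z) (Or.inr (Or.inl h))
      rw [map_neg] at this
      exact neg_injective this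
    · have := hfix (-z) (Or.inr (Or.inr h))
      rw [map_neg] at this
      exact neg_injective this
    · have h6 : (2 : F) * ((2 : F) * z) = 0 := by linear_combination h4 - h5
      have h7 : z = 0 := by
        have := (mul_eq_zero.1 h6).resolve_left h2
        exact (mul_eq_zero.1 this).resolve_left h2
      rw [h7, map_zero]

/-- The exceptional case: generic form. -/
theorem exc_generic [Finite F] (hm : ChevMonoN.checkMono T X D = true) (h2 : (2 : F) ≠ 0)
    (hE : ETab R D X j0 b1) {top : ℕ} (htop : top < D.nroots) (hmax : ∀ s < D.nroots, s ≤ top)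
    (hpos : R.N ≤ top) (hbot : D.neg top = 0) (hb1top : b1 ≠ top) (f : F ≃+* F) (H : Subgroup (GL D.Idx F))
    (hHG : H ≤ D.group F) (hM : ∀ g ∈ D.group F, glMap D f g = g → g ∈ H)
    (hNS : ∀ u ∈ H, u ∈ D.posUnipotent F → glMap D f u = u) (h0 : 0 < D.nroots)
    {x : GL D.Idx F} (hx : x ∈ H)
    (hc2 : ((x : Matrix D.Idx D.Idx F) (Sum.inr ⟨0, h0⟩) (Sum.inr ⟨top, htop⟩)) ^ 2 = -1)
    (hfc : f ((x : Matrix D.Idx D.Idx F) (Sum.inr ⟨0, h0⟩) (Sum.inr ⟨top, htop⟩)) ≠
      (x : Matrix D.Idx D.Idx F) (Sum.inr ⟨0, h0⟩) (Sum.inr ⟨top, htop⟩))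
    (hτ : ∀ τ : F, f τ = τ → τ ≠ 0 → τ ^ 2 = 1) : False := by
  obtain ⟨u, hu, n, hn, u', hu', σ, ν, e, h1, h3, hconj, hcol⟩ :=
    exists_top_form hF htop hmax hpos hm (hHG hx)
  set c := (x : Matrix D.Idx D.Idx F) (Sum.inr ⟨0, h0⟩) (Sum.inr ⟨top, htop⟩) with hc
  have hcu : c = (u : Matrix D.Idx D.Idx F) (Sum.inr ⟨0, h0⟩) (Sum.inr (σ ⟨top, htop⟩)) * (ν ⟨top, htop⟩ : F) :=
    hcol _
  rw [U_row_bot hF htop hmax hpos hbot hu] at hcu
  have hs : σ ⟨top, htop⟩ = ⟨0, h0⟩ := by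
    by_contra hne
    have hne' : ¬ ((Sum.inr (σ ⟨top, htop⟩) : D.Idx) = Sum.inr ⟨0, h0⟩) := fun e => hne (Sum.inr.inj e)
    rw [if_neg hne', zero_mul] at hcu
    rw [hcu] at hc2
    have h4 : (1 : F) = 0 := by
      have h5 : (0 : F) ^ 2 = 0 := by ring
      rw [h5] at hc2
      have h6 : (1 : F) = -(-1) := by ring
      rw [h6, ← hc2]
      ring
    exact one_ne_zero h4
  rw [hs, if_pos rfl, one_mul] at hcu
  have hconj' : ∀ t : F, x * hF.c.xG top t * x⁻¹ = u * hF.c.xG 0 (c * t) * u⁻¹ := by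
    intro t
    rw [hconj t, hs, ← hcu]
  obtain ⟨z, q, hq, hueq⟩ := exists_split hF hE.toETab0 hu
  have hux := split_entry hF hE.toETab0 z hq
  rw [← hueq] at hux
  have hcol1 : (x : Matrix D.Idx D.Idx F) (Sum.inr ⟨1, hE.h1⟩) (Sum.inr ⟨top, htop⟩) = (-z) * c := by
    have := hcol (Sum.inr ⟨1, hE.h1⟩)
    rw [hs, ← hcu, hux] at this
    exact this
  have hval : ∀ t : F, ((hF.c.xG (D.neg (D.simple j0)) t * x : GL D.Idx F) : Matrix D.Idx D.Idx F)
      (Sum.inr ⟨0, h0⟩) (Sum.inr ⟨top, htop⟩) = c * (1 + t * z) := by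
    intro t
    have h5 := row0_entry hF hE t (fun j => (x : Matrix D.Idx D.Idx F) j (Sum.inr ⟨top, htop⟩))
    simp only [Matrix.mulVec, dotProduct] at h5
    rw [Units.val_mul, Matrix.mul_apply, Checks.coe_xG, h5, hcol1]
    ring
  have hs0 := hF.simple_lt hE.hj0
  have hn0 := hF.neg_lt hs0
  have hD : ∀ t : F, f t = t → f (c * (1 + t * z)) = c * (1 + t * z) ∨ (c * (1 + t * z)) ^ 2 = -1 := by
    intro t ht
    have h5 : hF.c.xG (D.neg (D.simple j0)) t * x ∈ H := mul_mem (x_rat hF f H hM hn0 ht) hx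
    have h6 := entry_dichotomy hF htop hmax hpos f H hHG hM hNS hm h2 h0 hbot h5
    rw [hval] at h6
    rcases h6 with h6 | ⟨h6, -⟩
    · exact Or.inl h6
    · exact Or.inr h6
  have hfz : f z = z := z_fixed hF f h2 hc2 hτ (hD 1 (map_one f)) (hD (-1) (by simp))
  -- the rational correction
  have hr : hF.c.xG (D.simple j0) (-z) ∈ H := x_rat hF f H hM hs0 (by rw [map_neg, hfz])
  have hy : q * hF.c.xG 0 c * q⁻¹ ∈ H := by
    have h5 := mul_mem (mul_mem hr (mul_mem (mul_mem hx (x_rat hF f H hM htop (map_one f))) (inv_mem hx))) (inv_mem hr)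
    rw [hconj' 1, hueq, mul_one] at h5
    have e1 : hF.c.xG (D.simple j0) (-z) * (hF.c.xG (D.simple j0) z * q * hF.c.xG 0 c * (hF.c.xG (D.simple j0) z * q)⁻¹) * (hF.c.xG (D.simple j0) (-z))⁻¹ =
        (hF.c.xG (D.simple j0) (-z) * hF.c.xG (D.simple j0) z) * q * hF.c.xG 0 c * q⁻¹ * ((hF.c.xG (D.simple j0) (-z) * hF.c.xG (D.simple j0) z))⁻¹ := by
      group
    rw [e1, hF.c.xG_add] at h5
    simpa using h5
  -- the commutator
  set b := hF.c.xG b1 (1 : F) with hb
  have hbH : b ∈ H := x_rat hF f H hM hE.hb1 (map_one f)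
  have ha0J : ∀ s, QU D {j0} s → s ≠ D.simple j0 := by
    rintro s ⟨-, h5⟩ rfl
    apply h5
    rw [hF.inRootSub_iff]
    refine ⟨hs0, ?_⟩
    intro i hi hiJ
    rw [hF.simple_rc hE.hj0 hi, if_neg]
    rintro rfl
    exact hiJ rfl
  have hbq : b * q = q * b := by
    have hle : rootClosure D F (QU D {j0}) ≤ Subgroup.centralizer {b} := by
      rw [rootClosure, Subgroup.closure_le]
      rintro g ⟨s, t, hs', hg⟩
      rw [SetLike.mem_coe, Subgroup.mem_centralizer_singleton_iff, hF.c.eq_xG hg]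
      by_cases hsb : s = b1
      · subst hsb
        rw [hb, hF.c.xG_add, hF.c.xG_add, add_comm]
      · obtain ⟨h5, h6, -⟩ := hF.QU_spec hs'
        have h7 := hF.xG_comm hE.hb1 h5 hsb (by
          have := hF.neg_lt_N hE.hb1 hE.hb1N
          omega) 1 t
        rw [ChevalleyDatum.commWord, hE.comm s h5 h6 (ha0J s hs') hsb] at h7
        simp only [List.map_nil, Checks.wordG_nil, mul_one] at h7
        rw [h7]
    exact (Subgroup.mem_centralizer_singleton_iff.1 (hle hq)).symm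
  set A := hF.c.xG (D.neg (D.simple j0)) c with hA
  set E := hF.c.xG 0 c with hEd
  have hneg0 : D.neg 0 = top := by
    have := hF.neg_neg htop
    rwa [hbot] at this
  have hN0 : D.neg (D.simple j0) < R.N := hF.neg_lt_N hs0 (hF.simple_ge hE.hj0)
  have e1 : b * E = E * b * A := by
    have h5 := hF.xG_comm (r := 0) (s := b1) h0 hE.hb1 hE.n5 (by rw [hneg0]; exact hb1top) c 1
    have e2 : hF.c.wordG (D.commWord F 0 b1 c 1) = A := by
      unfold ChevalleyDatum.commWord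
      rw [hE.comm0]
      simp only [List.map_cons, List.map_nil, Checks.wordG_cons, Checks.wordG_nil, mul_one]
      rw [hA]
      congr 1
      push_cast
      ring
    rw [e2] at h5
    exact h5
  have e2 : A * b = b * A := by
    have h5 := hF.xG_comm (r := b1) (s := D.neg (D.simple j0)) hE.hb1 hn0 hE.n6 hE.n7 1 c
    rw [ChevalleyDatum.commWord, hE.comm1] at h5
    simp only [List.map_nil, Checks.wordG_nil, mul_one] at h5
    exact h5
  have e3 : A * E = E * A := by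
    have h5 := hF.xG_comm (r := 0) (s := D.neg (D.simple j0)) h0 hn0 (Ne.symm hE.n3) (by
      rw [hneg0]
      omega) c c
    rw [ChevalleyDatum.commWord, hE.comm2] at h5
    simp only [List.map_nil, Checks.wordG_nil, mul_one] at h5
    exact h5
  have e4 : b * E * b⁻¹ * E⁻¹ = A := by
    rw [e1]
    have : E * b * A * b⁻¹ * E⁻¹ = E * (b * A * b⁻¹) * E⁻¹ := by group
    rw [this, ← e2]
    have : E * (A * b * b⁻¹) * E⁻¹ = (E * A) * E⁻¹ := by group
    rw [this, ← e3]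
    group
  have hw : q * A * q⁻¹ ∈ H := by
    have h5 := mul_mem (mul_mem (mul_mem hbH hy) (inv_mem hbH)) (inv_mem hy)
    have e5 : b * (q * E * q⁻¹) * b⁻¹ * (q * E * q⁻¹)⁻¹ = (b * q) * E * (b * q)⁻¹ * q * E⁻¹ * q⁻¹ := by group
    rw [e5, hbq] at h5
    have e6 : q * b * E * (q * b)⁻¹ * q * E⁻¹ * q⁻¹ = q * (b * E * b⁻¹ * E⁻¹) * q⁻¹ := by group
    rw [e6, e4] at h5
    exact h5
  -- the Weyl element
  have hnJ : hF.nS (F := F) j0 ∈ D.parabolicSubgroup F {j0} := hF.nS_mem_parabolic hE.hj0 rfl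
  have hnN := hF.parabolic_le_normalizer {j0} hnJ
  rw [unipotentRadical_eq] at hnN
  set n0 := hF.nS (F := F) j0 with hn0d
  have hn0H : n0 ∈ H := hM _ (hF.nS_mem_group hE.hj0) (sig_nS hF f j0)
  have hq' : n0 * q * n0⁻¹ ∈ rootClosure D F (QU D {j0}) := (Subgroup.mem_normalizer_iff.1 hnN q).1 hq
  set q' := n0 * q * n0⁻¹ with hq'd
  set c' : F := ((X.eta j0 (D.neg (D.simple j0)) : ℤ) : F) * c with hc'
  have hnA : n0 * A * n0⁻¹ = hF.c.xG (D.simple j0) c' := by
    rw [hA, hn0d, hF.nS_conj_xG hE.hj0 hn0, hE.wf0]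
  have hQU : rootClosure D F (QU D {j0}) ≤ D.posUnipotent F := by
    rw [← unipotentRadical_eq]
    exact hF.radical_le_U _
  have he0 : q' * hF.c.xG (D.simple j0) c' * q'⁻¹ ∈ H := by
    have h5 := mul_mem (mul_mem hn0H hw) (inv_mem hn0H)
    have e5 : n0 * (q * A * q⁻¹) * n0⁻¹ = q' * (n0 * A * n0⁻¹) * q'⁻¹ := by
      rw [hq'd]
      group
    rw [e5, hnA] at h5
    exact h5
  have hUa : ∀ t : F, hF.c.xG (D.simple j0) t ∈ D.posUnipotent F := fun t =>
    hF.xG_mem_U hs0 (hF.simple_ge hE.hj0) t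
  have hfix := hNS _ he0 (mul_mem (mul_mem (hQU hq') (hUa _)) (inv_mem (hQU hq')))
  rw [map_mul, map_mul, map_inv, sig_xG hF] at hfix
  have hfc' : f c' = c' := by
    apply coord_fixed hF hE.toETab0 f (q := (hF.c.xG (D.simple j0) c')⁻¹ * q' * hF.c.xG (D.simple j0) c' * q'⁻¹)
    · apply mul_mem _ (inv_mem hq')
      have h5 := (Subgroup.mem_normalizer_iff.1 (hF.xG_mem_normalizer_UJ (J := {j0}) (Or.inl ((hF.isPos_iff).2 ⟨hs0, hF.simple_ge hE.hj0⟩)) (-c')) q').1 hq'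
      have e1 := hF.c.xG_inv (D.simple j0) c'
      have e2 : (hF.c.xG (D.simple j0) (-c'))⁻¹ = hF.c.xG (D.simple j0) c' := by rw [← e1, inv_inv]
      rw [e2] at h5
      rw [e1]
      exact h5
    · have e5 : hF.c.xG (D.simple j0) c' * ((hF.c.xG (D.simple j0) c')⁻¹ * q' * hF.c.xG (D.simple j0) c' * q'⁻¹) =
          q' * hF.c.xG (D.simple j0) c' * q'⁻¹ := by group
      rw [e5, map_mul, map_mul, map_inv, sig_xG hF]
      exact hfix
  apply hfc
  rw [hc', map_mul, map_intCast] at hfc'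
  exact mul_left_cancel₀ (hF.eta_ne hE.hj0 hn0) hfc'

end

end Cfsg.Agent.Lib.ChevSub
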