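import Mathlib
import Cfsg.Agent.Lib.ChevSub.ExcG
import Cfsg.Agent.Lib.ChevSub.CloseB2

/-!
# The exceptional entries with square `-1`: type `B₂`
-/

set_option autoImplicit false
set_option linter.unusedSectionVars false
set_option linter.unusedVariables false
set_option linter.unnecessarySimpa false
set_option maxRecDepth 100000

namespace Cfsg.Agent.Lib.ChevSub.B2

open Cfsg Cfsg.Lie Matrix Cfsg.Agent.Lib.Chev Cfsg.Agent.Lib.Chev.Full
open Cfsg.Agent.Lib.ChevTransfer Cfsg.Agent.Lib.ChevAut.SubField Cfsg.Agent.Lib.ChevInv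
open Cfsg.Agent.Lib.ChevSub Cfsg.Agent.Lib.Chev.TabB2 Cfsg.Agent.Lib.Chev.RootB2T

theorem t05 : chevB2.commTerms 0 5 = [(1, 1, 1, 1), (3, -1, 1, 2)] := by decide +kernel
theorem t15 : chevB2.commTerms 1 5 = [(3, -2, 1, 1)] := by decide +kernel
theorem t35 : chevB2.commTerms 3 5 = [] := by decide +kernel
theorem t01 : chevB2.commTerms 0 1 = [] := by decide +kernel
theorem t03 : chevB2.commTerms 0 3 = [] := by decide +kernel
theorem t04 : chevB2.commTerms 0 4 = [] := by decide +kernel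

theorem etab0 : ETab0 R chevB2 0 where
  hj0 := by decide
  h1 := by decide
  chain2 := by decide +kernel
  n3 := by decide +kernel
  n4 := by decide +kernel
  rc := by decide +kernel
  pos := by decide +kernel

section

variable {F : Type*} [Field F] (f : F ≃+* F) (H : Subgroup (GL chevB2.Idx F))
  (hM : ∀ g ∈ chevB2.group F, glMap chevB2 f g = g → g ∈ H)
  (hNS : ∀ u ∈ H, u ∈ chevB2.posUnipotent F → glMap chevB2 f u = u)

local notation "x" => hF.c.xG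

theorem comm05 (t u : F) : x 5 u * x 0 t = x 0 t * x 5 u * (x 1 (-(t * u)) * x 3 (t * u ^ 2)) := by
  have h := hF.xG_comm (r := 0) (s := 5) (by decide) (by decide) (by decide) (by decide +kernel) t u
  have e : hF.c.wordG (chevB2.commWord F 0 5 t u) = x 1 (-(t * u)) * x 3 (t * u ^ 2) := by
    unfold ChevalleyDatum.commWord
    rw [t05]
    simp only [List.map_cons, List.map_nil, Checks.wordG_cons, Checks.wordG_nil, mul_one]
    congr 2
    · push_cast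
      ring
    · push_cast
      ring
  rw [h, e]

theorem comm15 (t u : F) : x 5 u * x 1 t = x 1 t * x 5 u * x 3 (2 * t * u) := by
  have h := hF.xG_comm (r := 1) (s := 5) (by decide) (by decide) (by decide) (by decide +kernel) t u
  have e : hF.c.wordG (chevB2.commWord F 1 5 t u) = x 3 (2 * t * u) := by
    unfold ChevalleyDatum.commWord
    rw [t15]
    simp only [List.map_cons, List.map_nil, Checks.wordG_cons, Checks.wordG_nil, mul_one]
    congr 1
    push_cast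
    ring
  rw [h, e]

theorem c35 (t u : F) : x 5 u * x 3 t = x 3 t * x 5 u :=
  comm_nil (by decide) (by decide) (by decide) (by decide +kernel) t35 t u
theorem c01 (t u : F) : x 1 u * x 0 t = x 0 t * x 1 u :=
  comm_nil (by decide) (by decide) (by decide) (by decide +kernel) t01 t u
theorem c03 (t u : F) : x 3 u * x 0 t = x 0 t * x 3 u :=
  comm_nil (by decide) (by decide) (by decide) (by decide +kernel) t03 t u
theorem c04 (t u : F) : x 4 u * x 0 t = x 0 t * x 4 u :=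
  comm_nil (by decide) (by decide) (by decide) (by decide +kernel) t04 t u

/-- The inner commutator. -/
theorem inner (c : F) : x 5 1 * x 0 c * (x 5 1)⁻¹ * (x 0 c)⁻¹ = x 1 (-c) * x 3 (-c) := by
  have h1 := comm05 c (1 : F)
  have e1 : c * 1 = c := by ring
  have e2 : c * 1 ^ 2 = c := by ring
  rw [e1, e2] at h1
  rw [h1]
  have h2 := comm15 (-c) (1 : F)
  have h3 : x 5 1 * x 1 (-c) * (x 5 1)⁻¹ = x 1 (-c) * x 3 (2 * -c * 1) := by
    rw [h2]
    have h4 := c35 (2 * -c * 1) (1 : F)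
    calc x 1 (-c) * x 5 1 * x 3 (2 * -c * 1) * (x 5 1)⁻¹
        = x 1 (-c) * (x 5 1 * x 3 (2 * -c * 1)) * (x 5 1)⁻¹ := by group
      _ = x 1 (-c) * (x 3 (2 * -c * 1) * x 5 1) * (x 5 1)⁻¹ := by rw [h4]
      _ = _ := by group
  have h5 : x 5 1 * x 3 c * (x 5 1)⁻¹ = x 3 c := by
    rw [c35 c (1 : F)]
    group
  have h6 : x 0 c * x 5 1 * (x 1 (-c) * x 3 c) * (x 5 1)⁻¹ * (x 0 c)⁻¹ =
      x 0 c * ((x 5 1 * x 1 (-c) * (x 5 1)⁻¹) * (x 5 1 * x 3 c * (x 5 1)⁻¹)) * (x 0 c)⁻¹ := by group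
  rw [h6, h3, h5]
  have h7 : x 1 (-c) * x 3 (2 * -c * 1) * x 3 c = x 1 (-c) * x 3 (-c) := by
    rw [mul_assoc, hF.c.xG_add]
    congr 2
    ring
  rw [h7]
  have h8 := c01 c (-c)
  have h9 := c03 c (-c)
  calc x 0 c * (x 1 (-c) * x 3 (-c)) * (x 0 c)⁻¹
      = (x 0 c * x 1 (-c)) * x 3 (-c) * (x 0 c)⁻¹ := by group
    _ = (x 1 (-c) * x 0 c) * x 3 (-c) * (x 0 c)⁻¹ := by rw [h8]
    _ = x 1 (-c) * (x 0 c * x 3 (-c)) * (x 0 c)⁻¹ := by group
    _ = x 1 (-c) * (x 3 (-c) * x 0 c) * (x 0 c)⁻¹ := by rw [h9]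
    _ = _ := by group

/-- `Q` for the simple root `5`. -/
theorem mem_Q5 {r : ℕ} (hr : r < chevB2.nroots) (h : 0 < R.rcAt r 1) (t : F) :
    x r t ∈ rootClosure chevB2 F (QU chevB2 {0}) :=
  hF.xG_mem_rootClosure (hF.QU_of_rc hr (k := 1) (by decide) (by simp) h) t

include hM hNS

/-- The final case: no middle coordinate. -/
theorem exc_final {c z s : F} (hy : (x 5 z * x 7 s) * x 0 c * (x 5 z * x 7 s)⁻¹ ∈ H) : f c = c := by
  set v := x 5 z * x 7 s with hv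
  have h51 : x 5 (1 : F) ∈ H := x_rat hF f H hM (by decide) (map_one f)
  have hc : x 5 1 * v = v * x 5 1 := by
    rw [hv]
    have h1 : x 5 (1 : F) * x 5 z = x 5 z * x 5 1 := by
      rw [hF.c.xG_add, hF.c.xG_add, add_comm]
    have h2 := c57 (1 : F) s
    calc x 5 1 * (x 5 z * x 7 s) = (x 5 1 * x 5 z) * x 7 s := by group
      _ = x 5 z * (x 5 1 * x 7 s) := by rw [h1]; group
      _ = x 5 z * (x 7 s * x 5 1) := by rw [h2]
      _ = _ := by group
  have hw : v * (x 1 (-c) * x 3 (-c)) * v⁻¹ ∈ H := by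
    have h5 := mul_mem (mul_mem (mul_mem h51 hy) (inv_mem h51)) (inv_mem hy)
    have e5 : x 5 1 * (v * x 0 c * v⁻¹) * (x 5 1)⁻¹ * (v * x 0 c * v⁻¹)⁻¹ =
        (x 5 1 * v) * x 0 c * (x 5 1 * v)⁻¹ * v * (x 0 c)⁻¹ * v⁻¹ := by group
    rw [e5, hc] at h5
    have e6 : v * x 5 1 * x 0 c * (v * x 5 1)⁻¹ * v * (x 0 c)⁻¹ * v⁻¹ =
        v * (x 5 1 * x 0 c * (x 5 1)⁻¹ * (x 0 c)⁻¹) * v⁻¹ := by group
    rw [e6, inner] at h5
    exact h5
  -- conjugate by the Weyl element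
  set n := hF.nS (F := F) 0 * hF.nS (F := F) 1 with hn
  have hnH : n ∈ H := mul_mem (hM _ (hF.nS_mem_group (by decide)) (sig_nS hF f 0))
    (hM _ (hF.nS_mem_group (by decide)) (sig_nS hF f 1))
  have hconj : ∀ r < chevB2.nroots, ∀ t : F, n * x r t * n⁻¹ =
      x (X.wf 0 (X.wf 1 r)) (((X.eta 0 (X.wf 1 r) : ℤ) : F) * (((X.eta 1 r : ℤ) : F) * t)) := by
    intro r hr t
    have h1 := hF.nS_conj_xG (F := F) (i := 1) (by decide) hr t
    have h2 := hF.nS_conj_xG (F := F) (i := 0) (s := X.wf 1 r) (by decide) (hF.wf_lt (by decide) hr)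
      (((X.eta 1 r : ℤ) : F) * t)
    rw [← h1] at h2
    rw [← h2, hn]
    group
  have w5 : X.wf 0 (X.wf 1 5) = 6 := by decide +kernel
  have w7 : X.wf 0 (X.wf 1 7) = 4 := by decide +kernel
  have w1 : X.wf 0 (X.wf 1 1) = 5 := by decide +kernel
  have w3 : X.wf 0 (X.wf 1 3) = 7 := by decide +kernel
  have hconj5 := hconj 5 (by decide)
  have hconj7 := hconj 7 (by decide)
  have hconj1 := hconj 1 (by decide)
  have hconj3 := hconj 3 (by decide)
  rw [w5] at hconj5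
  rw [w7] at hconj7
  rw [w1] at hconj1
  rw [w3] at hconj3
  set e1 : F := ((X.eta 0 (X.wf 1 1) : ℤ) : F) * ((X.eta 1 1 : ℤ) : F) with he1
  have he1ne : e1 ≠ 0 := mul_ne_zero (hF.eta_ne (by decide) (hF.wf_lt (by decide) (by decide)))
    (hF.eta_ne (by decide) (by decide))
  have hfe1 : f e1 = e1 := by
    rw [he1, map_mul, map_intCast, map_intCast]
  set α : F := e1 * (-c) with hα
  set Q := rootClosure chevB2 F (QU chevB2 {0}) with hQ
  -- the conjugates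
  have hv' : n * v * n⁻¹ ∈ Q := by
    have e : n * v * n⁻¹ = (n * x 5 z * n⁻¹) * (n * x 7 s * n⁻¹) := by
      rw [hv]
      group
    rw [e, hconj5, hconj7]
    exact mul_mem (mem_Q5 (by decide) (by decide +kernel) _) (mem_Q5 (by decide) (by decide +kernel) _)
  have hB : n * (x 1 (-c) * x 3 (-c)) * n⁻¹ = x 5 α * x 7 (((X.eta 0 (X.wf 1 3) : ℤ) : F) * (((X.eta 1 3 : ℤ) : F) * -c)) := by
    have e : n * (x 1 (-c) * x 3 (-c)) * n⁻¹ = (n * x 1 (-c) * n⁻¹) * (n * x 3 (-c) * n⁻¹) := by group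
    rw [e, hconj1, hconj3, hα, he1, mul_assoc]
  set β : F := ((X.eta 0 (X.wf 1 3) : ℤ) : F) * (((X.eta 1 3 : ℤ) : F) * -c) with hβ
  have hβQ : x 7 β ∈ Q := mem_Q5 (by decide) (by decide +kernel) _
  have he : n * (v * (x 1 (-c) * x 3 (-c)) * v⁻¹) * n⁻¹ ∈ H := mul_mem (mul_mem hnH hw) (inv_mem hnH)
  set q0 := n * v * n⁻¹ with hq0
  have e7 : n * (v * (x 1 (-c) * x 3 (-c)) * v⁻¹) * n⁻¹ = q0 * (x 5 α * x 7 β) * q0⁻¹ := by
    rw [← hB, hq0]
    group
  rw [e7] at he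
  have hs0 : (5 : ℕ) < chevB2.nroots := by decide
  have hN5 : x 5 α * ((x 5 α)⁻¹ * q0 * x 5 α * x 7 β * q0⁻¹) = q0 * (x 5 α * x 7 β) * q0⁻¹ := by group
  have hq4 : (x 5 α)⁻¹ * q0 * x 5 α * x 7 β * q0⁻¹ ∈ Q := by
    refine mul_mem (mul_mem ?_ hβQ) (inv_mem hv')
    have h5 := (Subgroup.mem_normalizer_iff.1 (hF.xG_mem_normalizer_UJ (J := {0}) (r := 5)
      (Or.inl ((hF.isPos_iff).2 ⟨hs0, by decide⟩)) (-α)) q0).1 hv'
    have e1' := hF.c.xG_inv 5 α
    have e2' : (x 5 (-α))⁻¹ = x 5 α := by rw [← e1', inv_inv]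
    rw [e2'] at h5
    rw [e1']
    exact h5
  have hQU : Q ≤ chevB2.posUnipotent F := by
    rw [hQ, ← unipotentRadical_eq]
    exact hF.radical_le_U _
  have hU5 : x 5 α ∈ chevB2.posUnipotent F := hF.xG_mem_U hs0 (by decide) α
  have hfix := hNS _ he (by
    rw [← hN5]
    exact mul_mem hU5 (hQU hq4))
  rw [← hN5] at hfix
  have h8 : f α = α := coord_fixed hF etab0 f (d := α) hq4 hfix
  rw [hα, map_mul, hfe1, map_neg] at h8
  have h9 := mul_left_cancel₀ he1ne h8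
  exact neg_injective h9

/-- The form of the elements of the radical. -/
theorem Q1_form {q : GL chevB2.Idx F} (hq : q ∈ rootClosure chevB2 F (QU chevB2 {1})) :
    ∃ z w s : F, q = x 5 z * x 6 w * x 7 s := by
  have hroots : ∀ r, QU chevB2 {1} r → r = 5 ∨ r = 6 ∨ r = 7 := by
    rintro r ⟨h1, h2⟩
    obtain ⟨h3, h4⟩ := (hF.isPos_iff).1 h1
    have h3' : r < 8 := h3
    have h4' : 4 ≤ r := h4
    have : r ≠ 4 := by
      rintro rfl
      apply h2
      rw [hF.inRootSub_iff]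
      refine ⟨by decide, ?_⟩
      intro i hi hiJ
      have : i = 0 := by
        have hi' : i < 2 := hi
        have : i ≠ 1 := hiJ
        omega
      subst this
      decide +kernel
    omega
  have key : ∀ r, QU chevB2 {1} r → ∀ (t z w s : F), ∃ z' w' s' : F,
      x r t * (x 5 z * x 6 w * x 7 s) = x 5 z' * x 6 w' * x 7 s' := by
    intro r hr t z w s
    rcases hroots r hr with rfl | rfl | rfl
    · refine ⟨t + z, w, s, ?_⟩
      rw [← hF.c.xG_add]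
      group
    · refine ⟨z, t + w, -(2 * z * t) + s, ?_⟩
      have h1 := comm56 z t
      rw [← hF.c.xG_add (r := 6) t w, ← hF.c.xG_add (r := 7) (-(2 * z * t)) s]
      have h2 := c67 w (-(2 * z * t))
      calc x 6 t * (x 5 z * x 6 w * x 7 s) = (x 6 t * x 5 z) * x 6 w * x 7 s := by group
        _ = x 5 z * x 6 t * (x 7 (-(2 * z * t)) * x 6 w) * x 7 s := by rw [h1]; group
        _ = x 5 z * x 6 t * (x 6 w * x 7 (-(2 * z * t))) * x 7 s := by rw [h2]
        _ = _ := by group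
    · refine ⟨z, w, t + s, ?_⟩
      have h1 := c57 z t
      have h2 := c67 w t
      rw [← hF.c.xG_add (r := 7) t s]
      calc x 7 t * (x 5 z * x 6 w * x 7 s) = (x 7 t * x 5 z) * x 6 w * x 7 s := by group
        _ = x 5 z * (x 7 t * x 6 w) * x 7 s := by rw [h1]; group
        _ = x 5 z * (x 6 w * x 7 t) * x 7 s := by rw [h2]
        _ = _ := by group
  unfold rootClosure at hq
  induction hq using Subgroup.closure_induction_left with
  | one => exact ⟨0, 0, 0, by simp⟩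
  | mul_left g hg y _ ih =>
    obtain ⟨r, t, hr, hg⟩ := hg
    obtain ⟨z, w, s, rfl⟩ := ih
    rw [hF.c.eq_xG hg]
    exact key r hr t z w s
  | inv_mul_cancel g hg y _ ih =>
    obtain ⟨r, t, hr, hg⟩ := hg
    obtain ⟨z, w, s, rfl⟩ := ih
    rw [hF.c.eq_xG hg, hF.c.xG_inv]
    exact key r hr (-t) z w s

/-- The exceptional case for `B₂`. -/
theorem exc_b2 [Finite F] (hm : ChevMonoN.checkMono T X chevB2 = true) (h2 : (2 : F) ≠ 0)
    (hHG : H ≤ chevB2.group F) (h0 : 0 < chevB2.nroots) (h7 : 7 < chevB2.nroots)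
    {xx : GL chevB2.Idx F} (hx : xx ∈ H)
    (hc2 : ((xx : Matrix chevB2.Idx chevB2.Idx F) (Sum.inr ⟨0, h0⟩) (Sum.inr ⟨7, h7⟩)) ^ 2 = -1)
    (hfc : f ((xx : Matrix chevB2.Idx chevB2.Idx F) (Sum.inr ⟨0, h0⟩) (Sum.inr ⟨7, h7⟩)) ≠
      (xx : Matrix chevB2.Idx chevB2.Idx F) (Sum.inr ⟨0, h0⟩) (Sum.inr ⟨7, h7⟩))
    (hK : ∀ z : F, ∃ α β : F, f α = α ∧ f β = β ∧
      z = α + β * (xx : Matrix chevB2.Idx chevB2.Idx F) (Sum.inr ⟨0, h0⟩) (Sum.inr ⟨7, h7⟩)) : False := by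
  have hmax : ∀ s < chevB2.nroots, s ≤ 7 := by
    intro s hs
    have hs' : s < 8 := hs
    omega
  have hpos : R.N ≤ 7 := by decide +kernel
  have hbot : chevB2.neg 7 = 0 := by decide +kernel
  obtain ⟨u, hu, n, hn, u', hu', σ, ν, e, h1, h3, hconj, hcol⟩ :=
    exists_top_form hF h7 hmax hpos hm (hHG hx)
  set c := (xx : Matrix chevB2.Idx chevB2.Idx F) (Sum.inr ⟨0, h0⟩) (Sum.inr ⟨7, h7⟩) with hc
  have hcu : c = (u : Matrix chevB2.Idx chevB2.Idx F) (Sum.inr ⟨0, h0⟩) (Sum.inr (σ ⟨7, h7⟩)) * (ν ⟨7, h7⟩ : F) :=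
    hcol _
  rw [U_row_bot hF h7 hmax hpos hbot hu] at hcu
  have hs : σ ⟨7, h7⟩ = ⟨0, h0⟩ := by
    by_contra hne
    have hne' : ¬ ((Sum.inr (σ ⟨7, h7⟩) : chevB2.Idx) = Sum.inr ⟨0, h0⟩) := fun e => hne (Sum.inr.inj e)
    rw [if_neg hne', zero_mul] at hcu
    apply hfc
    rw [hcu, map_zero]
  rw [hs, if_pos rfl, one_mul] at hcu
  have hy0 : u * x 0 c * u⁻¹ ∈ H := by
    have h5 := mul_mem (mul_mem hx (x_rat hF f H hM h7 (map_one f))) (inv_mem hx)
    rw [hconj 1, hs, ← hcu, mul_one] at h5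
    exact h5
  -- the Levi factor
  obtain ⟨q, hq, a, ha, rfl⟩ := hF.exists_factor (QU chevB2 {1}) (fun r => r = 4) (by
    intro r hr
    by_cases h : r = 4
    · exact Or.inr h
    · refine Or.inl ⟨hr, ?_⟩
      intro h5
      obtain ⟨h6, h8⟩ := (hF.inRootSub_iff).1 h5
      obtain ⟨h9, h10⟩ := (hF.isPos_iff).1 hr
      have h11 := h8 0 (by decide) (by simp)
      apply h
      have h6' : r < 8 := h6
      have h10' : 4 ≤ r := h10
      interval_cases r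
      · rfl
      · exact absurd h11 (by decide +kernel)
      · exact absurd h11 (by decide +kernel)
      · exact absurd h11 (by decide +kernel)) hu
  have hacomm : a * x 0 c = x 0 c * a := by
    have hle : rootClosure chevB2 F (fun r => r = 4) ≤ Subgroup.centralizer {x 0 c} := by
      rw [rootClosure, Subgroup.closure_le]
      rintro g ⟨s, t, rfl, hg⟩
      rw [SetLike.mem_coe, Subgroup.mem_centralizer_singleton_iff, hF.c.eq_xG hg]
      exact c04 c t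
    exact Subgroup.mem_centralizer_singleton_iff.1 (hle ha)
  have hy1 : q * x 0 c * q⁻¹ ∈ H := by
    have e5 : q * a * x 0 c * (q * a)⁻¹ = q * (a * x 0 c) * a⁻¹ * q⁻¹ := by group
    rw [e5, hacomm] at hy0
    have e6 : q * (x 0 c * a) * a⁻¹ * q⁻¹ = q * x 0 c * q⁻¹ := by group
    rwa [e6] at hy0
  obtain ⟨z, w, s, rfl⟩ := Q1_form f H hM hNS hq
  obtain ⟨α1, β1, hα1, hβ1, hz⟩ := hK z
  obtain ⟨α2, β2, hα2, hβ2, hw⟩ := hK w
  -- the rational shift
  have hr1 : x 5 (-α1) * x 6 (-α2) ∈ H :=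
    mul_mem (x_rat hF f H hM (by decide) (by rw [map_neg, hα1]))
      (x_rat hF f H hM (by decide) (by rw [map_neg, hα2]))
  have hshift : x 5 (-α1) * x 6 (-α2) * (x 5 z * x 6 w * x 7 s) =
      x 5 (β1 * c) * x 6 (β2 * c) * x 7 (-(2 * z * -α2) + s) := by
    have h5 := comm56 z (-α2)
    have h6 := c67 w (-(2 * z * -α2))
    have e7 : β1 * c = -α1 + z := by rw [hz]; ring
    have e8 : β2 * c = -α2 + w := by rw [hw]; ring
    rw [e7, e8, ← hF.c.xG_add, ← hF.c.xG_add (r := 6), ← hF.c.xG_add (r := 7)]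
    calc x 5 (-α1) * x 6 (-α2) * (x 5 z * x 6 w * x 7 s)
        = x 5 (-α1) * (x 6 (-α2) * x 5 z) * x 6 w * x 7 s := by group
      _ = x 5 (-α1) * x 5 z * x 6 (-α2) * (x 7 (-(2 * z * -α2)) * x 6 w) * x 7 s := by rw [h5]; group
      _ = x 5 (-α1) * x 5 z * x 6 (-α2) * (x 6 w * x 7 (-(2 * z * -α2))) * x 7 s := by rw [h6]
      _ = _ := by group
  set s1 := -(2 * z * -α2) + s with hs1
  have hy2 : (x 5 (β1 * c) * x 6 (β2 * c) * x 7 s1) * x 0 c * (x 5 (β1 * c) * x 6 (β2 * c) * x 7 s1)⁻¹ ∈ H := by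
    have h5 := mul_mem (mul_mem hr1 hy1) (inv_mem hr1)
    rw [← hshift]
    have e7 : x 5 (-α1) * x 6 (-α2) * (x 5 z * x 6 w * x 7 s) * x 0 c * (x 5 (-α1) * x 6 (-α2) * (x 5 z * x 6 w * x 7 s))⁻¹ =
        x 5 (-α1) * x 6 (-α2) * (x 5 z * x 6 w * x 7 s * x 0 c * (x 5 z * x 6 w * x 7 s)⁻¹) * (x 5 (-α1) * x 6 (-α2))⁻¹ := by group
    rw [e7]
    exact h5
  apply hfc
  by_cases hβ10 : β1 = 0
  · -- the swap
    rw [hβ10, zero_mul, hF.c.xG_zero, one_mul] at hy2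
    have hn1 : hF.nS (F := F) 1 ∈ H := hM _ (hF.nS_mem_group (by decide)) (sig_nS hF f 1)
    have h5 := mul_mem (mul_mem hn1 hy2) (inv_mem hn1)
    have e61 := hF.nS_conj_xG (F := F) (i := 1) (s := 6) (by decide) (by decide) (β2 * c)
    have e71 := hF.nS_conj_xG (F := F) (i := 1) (s := 7) (by decide) (by decide) s1
    have e01 := hF.nS_conj_xG (F := F) (i := 1) (s := 0) (by decide) (by decide) c
    have w16 : X.wf 1 6 = 5 := by decide +kernel
    have w10 : X.wf 1 0 = 0 := by decide +kernel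
    rw [w16] at e61
    rw [w17] at e71
    rw [w10] at e01
    set n1 := hF.nS (F := F) 1 with hn1d
    have e7 : n1 * (x 6 (β2 * c) * x 7 s1 * x 0 c * (x 6 (β2 * c) * x 7 s1)⁻¹) * n1⁻¹ =
        ((n1 * x 6 (β2 * c) * n1⁻¹) * (n1 * x 7 s1 * n1⁻¹)) * (n1 * x 0 c * n1⁻¹) *
          ((n1 * x 6 (β2 * c) * n1⁻¹) * (n1 * x 7 s1 * n1⁻¹))⁻¹ := by group
    rw [e7, e61, e71, e01] at h5
    have h6 := exc_final f H hM hNS h5
    rw [map_mul, map_intCast] at h6
    exact mul_left_cancel₀ (hF.eta_ne (by decide) (by decide)) h6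
  · -- the Levi element
    set t : F := -(β2 / β1) with ht
    have hft : f t = t := by rw [ht, map_neg, map_div₀, hβ1, hβ2]
    have hx4 : x 4 t ∈ H := x_rat hF f H hM (by decide) hft
    have hcm := comm45 (-t) (β1 * c)
    have e1 : x 4 t * x 5 (β1 * c) * (x 4 t)⁻¹ = x 5 (β1 * c) * (x 6 (-(-t * (β1 * c))) * x 7 (-t * (β1 * c) ^ 2)) := by
      have e2 : (x 4 t)⁻¹ = x 4 (-t) := hF.c.xG_inv _ _
      have e3 : x 4 t * x 4 (-t) = 1 := by
        rw [hF.c.xG_add, add_neg_cancel, hF.c.xG_zero]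
      rw [e2, mul_assoc, hcm]
      calc x 4 t * (x 4 (-t) * x 5 (β1 * c) * (x 6 (-(-t * (β1 * c))) * x 7 (-t * (β1 * c) ^ 2)))
          = (x 4 t * x 4 (-t)) * x 5 (β1 * c) * (x 6 (-(-t * (β1 * c))) * x 7 (-t * (β1 * c) ^ 2)) := by group
        _ = _ := by rw [e3, one_mul]
    have e2 : x 4 t * x 6 (β2 * c) * (x 4 t)⁻¹ = x 6 (β2 * c) := by
      rw [← c46 t (β2 * c)]
      group
    have e3 : x 4 t * x 7 s1 * (x 4 t)⁻¹ = x 7 s1 := by
      rw [← c47 t s1]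
      group
    have e4 : x 4 t * x 0 c * (x 4 t)⁻¹ = x 0 c := by
      rw [c04 c t]
      group
    have h5 := mul_mem (mul_mem hx4 hy2) (inv_mem hx4)
    have e7 : x 4 t * (x 5 (β1 * c) * x 6 (β2 * c) * x 7 s1 * x 0 c * (x 5 (β1 * c) * x 6 (β2 * c) * x 7 s1)⁻¹) * (x 4 t)⁻¹ =
        ((x 4 t * x 5 (β1 * c) * (x 4 t)⁻¹) * (x 4 t * x 6 (β2 * c) * (x 4 t)⁻¹) * (x 4 t * x 7 s1 * (x 4 t)⁻¹)) * (x 4 t * x 0 c * (x 4 t)⁻¹) *
          ((x 4 t * x 5 (β1 * c) * (x 4 t)⁻¹) * (x 4 t * x 6 (β2 * c) * (x 4 t)⁻¹) * (x 4 t * x 7 s1 * (x 4 t)⁻¹))⁻¹ := by group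
    rw [e7, e1, e2, e3, e4] at h5
    have e8 : x 5 (β1 * c) * (x 6 (-(-t * (β1 * c))) * x 7 (-t * (β1 * c) ^ 2)) * x 6 (β2 * c) * x 7 s1 =
        x 5 (β1 * c) * x 7 (-t * (β1 * c) ^ 2 + s1) := by
      have e9 : -(-t * (β1 * c)) + β2 * c = 0 := by
        rw [ht]
        field_simp
        ring
      have e10 := c67 (β2 * c) (-t * (β1 * c) ^ 2)
      rw [← hF.c.xG_add 7 (-t * (β1 * c) ^ 2) s1]
      calc x 5 (β1 * c) * (x 6 (-(-t * (β1 * c))) * x 7 (-t * (β1 * c) ^ 2)) * x 6 (β2 * c) * x 7 s1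
          = x 5 (β1 * c) * x 6 (-(-t * (β1 * c))) * (x 7 (-t * (β1 * c) ^ 2) * x 6 (β2 * c)) * x 7 s1 := by group
        _ = x 5 (β1 * c) * (x 6 (-(-t * (β1 * c))) * x 6 (β2 * c)) * x 7 (-t * (β1 * c) ^ 2) * x 7 s1 := by
          rw [e10]; group
        _ = _ := by
          rw [hF.c.xG_add, e9, hF.c.xG_zero]
          group
    rw [e8] at h5
    exact exc_final f H hM hNS h5

end

end Cfsg.Agent.Lib.ChevSub.B2
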