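import Mathlib
import Cfsg.Agent.Lib.ChevSub.Two
import Cfsg.Agent.Lib.ChevSub.Deep
import Cfsg.Agent.Lib.ChevSub.ExcG
import Cfsg.Agent.Lib.ChevInv.Gen6

/-!
# Generic pieces of the final assembly
-/

set_option autoImplicit false
set_option linter.unusedSectionVars false
set_option linter.unusedVariables false
set_option linter.unnecessarySimpa false

namespace Cfsg.Agent.Lib.ChevSub

open Cfsg Cfsg.Lie Matrix Cfsg.Agent.Lib.Chev Cfsg.Agent.Lib.Chev.Full Cfsg.Agent.Lib.Chev.Tri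
open Cfsg.Agent.Lib.ChevTransfer Cfsg.Agent.Lib.ChevAut.SubField
open Cfsg.Agent.Lib.ChevAut.ParabFit Cfsg.Agent.Lib.ChevInv Cfsg.Agent.Lib.ChevInv.CentG
open Cfsg.Agent.Lib.ChevAut.RootCent Equiv

variable {T : Tabs} {X : Extra} {R : RootTab} {D : ChevalleyDatum} (hF : Full T X R D)
variable {F : Type*} [Field F]

noncomputable instance instDecRowOK (R : RootTab) (D : ChevalleyDatum) (k β m i : ℕ) (N' M' : ℤ) :
    Decidable (RowOK R D k β m i N' M') := by
  unfold RowOK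
  infer_instance

/-- A row of the table. -/
abbrev RowE := ℕ × ℕ × ℕ × ℕ × ℤ × ℤ

/-- A row with value `±1`. -/
def RowGood (R : RootTab) (D : ChevalleyDatum) (e : RowE) : Prop :=
  RowOK R D e.1 e.2.1 e.2.2.1 e.2.2.2.1 e.2.2.2.2.1 e.2.2.2.2.2 ∧
    (rowZ D e.1 e.2.1 e.2.2.2.1 e.2.2.2.2.1 e.2.2.2.2.2 = 1 ∨ rowZ D e.1 e.2.1 e.2.2.2.1 e.2.2.2.2.1 e.2.2.2.2.2 = -1)

noncomputable instance instDecRowGood (R : RootTab) (D : ChevalleyDatum) (e : RowE) : Decidable (RowGood R D e) := by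
  unfold RowGood
  infer_instance

/-- A row with a given value. -/
def RowVal (R : RootTab) (D : ChevalleyDatum) (e : RowE) (z : ℤ) : Prop :=
  RowOK R D e.1 e.2.1 e.2.2.1 e.2.2.2.1 e.2.2.2.2.1 e.2.2.2.2.2 ∧
    rowZ D e.1 e.2.1 e.2.2.2.1 e.2.2.2.2.1 e.2.2.2.2.2 = z

noncomputable instance instDecRowVal (R : RootTab) (D : ChevalleyDatum) (e : RowE) (z : ℤ) : Decidable (RowVal R D e z) := by
  unfold RowVal
  infer_instance

theorem cov_of_rows {L : List RowE} (hok : ∀ e ∈ L, RowGood R D e) {k : ℕ} (h : ∃ e ∈ L, e.1 = k) :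
    ∃ β m i N' M', RowOK R D k β m i N' M' ∧ ((rowZ D k β i N' M' : ℤ) : F) ≠ 0 := by
  obtain ⟨e, he, rfl⟩ := h
  obtain ⟨h1, h2⟩ := hok e he
  refine ⟨_, _, _, _, _, h1, ?_⟩
  rcases h2 with h2 | h2 <;> rw [h2] <;> simp

theorem cov_of_val {e : RowE} {z : ℤ} (h : RowVal R D e z) (hz : ((z : ℤ) : F) ≠ 0) :
    ∃ β m i N' M', RowOK R D e.1 β m i N' M' ∧ ((rowZ D e.1 β i N' M' : ℤ) : F) ≠ 0 := by
  obtain ⟨h1, h2⟩ := h
  refine ⟨_, _, _, _, _, h1, ?_⟩
  rw [h2]
  exact hz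

theorem cov_two {e1 e2 : RowE} {z1 z2 a b : ℤ} (h1 : RowVal R D e1 z1) (h2 : RowVal R D e2 z2) (hk : e2.1 = e1.1)
    (hz : a * z1 + b * z2 = 1) :
    ∃ β m i N' M', RowOK R D e1.1 β m i N' M' ∧ ((rowZ D e1.1 β i N' M' : ℤ) : F) ≠ 0 := by
  by_cases h : ((z1 : ℤ) : F) = 0
  · have h3 : ((z2 : ℤ) : F) ≠ 0 := by
      intro h4
      have h5 : ((a * z1 + b * z2 : ℤ) : F) = 1 := by
        rw [hz]
        simp
      rw [Int.cast_add, Int.cast_mul, Int.cast_mul, h, h4] at h5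
      simp at h5
    rw [← hk]
    exact cov_of_val h2 h3
  · exact cov_of_val h1 h

/-- Frobenius-like surjectivity. -/
theorem pow_surj_of [Finite F] (n : ℕ) (hinj : ∀ a b : F, a ^ n = b ^ n → a = b) (hn : n ≠ 0) :
    ∀ t : F, t ≠ 0 → ∃ c : Fˣ, (((c : Fˣ) ^ (-(n : ℤ)) : Fˣ) : F) = t := by
  intro t ht
  have hs : Function.Surjective (fun a : F => a ^ n) := Finite.injective_iff_surjective.1 (fun a b h => hinj a b h)
  obtain ⟨a, ha⟩ := hs t⁻¹
  have ha' : a ^ n = t⁻¹ := ha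
  have ha0 : a ≠ 0 := by
    rintro rfl
    rw [zero_pow hn] at ha'
    exact inv_ne_zero ht ha'.symm
  refine ⟨Units.mk0 a ha0, ?_⟩
  rw [_root_.zpow_neg, zpow_natCast, Units.val_inv_eq_inv_val, Units.val_pow_eq_pow_val, Units.val_mk0, ha', inv_inv]

theorem sq_inj_of (h2 : (2 : F) = 0) (a b : F) (h : a ^ 2 = b ^ 2) : a = b := by
  have h3 : (a + b) ^ 2 = 0 := by
    linear_combination h + (b ^ 2 + a * b) * h2
  have h4 := pow_eq_zero_iff (n := 2) (by norm_num) |>.1 h3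
  have h5 : a = -b := eq_neg_of_add_eq_zero_left h4
  rw [h5]
  have h6 : b + b = 0 := by linear_combination b * h2
  linear_combination -h6

theorem cube_inj_of (h3 : (3 : F) = 0) (a b : F) (h : a ^ 3 = b ^ 3) : a = b := by
  have h4 : (a - b) ^ 3 = 0 := by
    linear_combination h + (- a ^ 2 * b + a * b ^ 2) * h3
  have h5 := pow_eq_zero_iff (n := 3) (by norm_num) |>.1 h4
  exact sub_eq_zero.1 h5

include hF

/-- Root elements commute, when the constants of the commutator formula vanish. -/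
theorem xG_comm_zero {r s : ℕ} (hr : r < D.nroots) (hs : s < D.nroots) (h1 : s ≠ r) (h2 : s ≠ D.neg r)
    (h3 : ∀ c ∈ D.commTerms r s, ((c.2.1 : ℤ) : F) = 0) (a b : F) :
    hF.c.xG s b * hF.c.xG r a = hF.c.xG r a * hF.c.xG s b := by
  have h4 := hF.xG_comm hr hs h1 h2 a b
  have h5 : hF.c.wordG (D.commWord F r s a b) = 1 := by
    unfold ChevalleyDatum.commWord
    generalize D.commTerms r s = L at h3
    induction L with
    | nil => simp [Checks.wordG_nil]
    | cons c L ih =>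
      rw [List.map_cons, Checks.wordG_cons, ih (fun c' hc' => h3 c' (List.mem_cons_of_mem _ hc')),
        h3 c List.mem_cons_self]
      simp
  rw [h4, h5, mul_one]

theorem xG_comm_nil {r s : ℕ} (hr : r < D.nroots) (hs : s < D.nroots) (h1 : s ≠ r) (h2 : s ≠ D.neg r)
    (h3 : D.commTerms r s = []) (a b : F) :
    hF.c.xG s b * hF.c.xG r a = hF.c.xG r a * hF.c.xG s b :=
  xG_comm_zero hF hr hs h1 h2 (by simp [h3]) a b

/-- A central root element in the special characteristic. -/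
theorem hcentD_of {δ q : ℕ} (hδ : δ < D.nroots) (hδN : R.N ≤ δ) (hq : ((q : ℕ) : F) = 0)
    (h : ∀ r < D.nroots, R.N ≤ r → r ≠ δ → ∀ c ∈ D.commTerms δ r, c.2.1 % (q : ℤ) = 0) :
    ∀ r < D.nroots, R.N ≤ r → ∀ t t' : F, hF.c.xG δ t * hF.c.xG r t' = hF.c.xG r t' * hF.c.xG δ t := by
  intro r hr hrN t t'
  by_cases hrδ : r = δ
  · subst hrδ
    rw [hF.c.xG_add, hF.c.xG_add, add_comm]
  · refine (xG_comm_zero hF hδ hr hrδ ?_ ?_ t t').symm
    · have := hF.neg_lt_N hδ hδN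
      omega
    · intro c hc
      have h5 := h r hr hrN hrδ c hc
      obtain ⟨k, hk⟩ := Int.dvd_of_emod_eq_zero h5
      rw [hk]
      push_cast
      rw [hq, zero_mul]

theorem eq_group_of_all (H : Subgroup (GL D.Idx F)) (hHG : H ≤ D.group F)
    (hall : ∀ r < D.nroots, ∀ t : F, hF.c.xG r t ∈ H) : H = D.group F := by
  apply le_antisymm hHG
  rw [ChevalleyDatum.group, Subgroup.closure_le]
  rintro g ⟨r, t, hg⟩
  have e : g = hF.c.xG r t := by
    apply Units.ext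
    rw [hg, Checks.coe_xG]
    simp [ChevalleyDatum.x]
  rw [e]
  exact hall r r.2 t

theorem hcentT_of {top : ℕ} (htop : top < D.nroots) (hmax : ∀ s < D.nroots, s ≤ top) (hpos : R.N ≤ top) :
    ∀ r < D.nroots, R.N ≤ r → ∀ t t' : F, hF.c.xG top t * hF.c.xG r t' = hF.c.xG r t' * hF.c.xG top t := by
  intro r hr hrN t t'
  exact (comm_pos hF htop hmax hpos ((hF.isPos_iff).2 ⟨hr, hrN⟩) t t').symm

/-- The simply laced extraction. -/
theorem part_one_sl (f : F ≃+* F) (H : Subgroup (GL D.Idx F)) (hHG : H ≤ D.group F)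
    (hM : ∀ g ∈ D.group F, glMap D f g = g → g ∈ H) {top r s m : ℕ} {C : ℤ}
    (htop : top < D.nroots) (hpos : R.N ≤ top) (hmax : ∀ s < D.nroots, s ≤ top)
    (hcov : ∀ k, R.N ≤ k → k < D.nroots → k ≠ top → ∃ β m i N' M', RowOK R D k β m i N' M' ∧
      ((rowZ D k β i N' M' : ℤ) : F) ≠ 0)
    (hup : ∀ r < D.nroots, r ≠ top → ∃ i < D.rank, r < X.wf i r)
    (hr : r < D.nroots) (hs : s < D.nroots) (hm : m < D.nroots) (h1 : s ≠ r) (h2 : s ≠ D.neg r)
    (hterms : D.commTerms r s = [(m, C, 1, 1)]) (hC : C = 1 ∨ C = -1) (hSub : SubHyp f)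
    (hStar : ∃ u ∈ H, u ∈ D.posUnipotent F ∧ glMap D f u ≠ u) :
    ∀ r < D.nroots, ∀ t : F, hF.c.xG r t ∈ H := by
  rcases star_cases hF f H hHG hM (δ := top) htop hpos hmax htop hpos (hcentT_of hF htop hmax hpos)
      (fun h => absurd rfl h) (fun k h1 h2 h3 _ => hcov k h1 h2 h3) hStar with ⟨s0, hs0, hx⟩ | ⟨h, -⟩
  · intro r' hr' t
    refine long_full hF f H hM (L := fun _ => True) htop ?_ hr hs hm trivial trivial trivial h1 h2 hterms
      (by simp) (by rcases hC with rfl | rfl <;> simp) hSub hs0 hx r' hr' trivial t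
    intro r hr _ hne
    obtain ⟨i, hi, h3⟩ := hup r hr hne
    exact ⟨i, hi, h3, trivial⟩
  · exact absurd rfl h

/-- Rational word elements. -/
theorem sig_xL (f : F ≃+* F) (L : List ℕ) : glMap D f (xL hF F L) = xL hF F L := by
  induction L with
  | nil => simp [xL_nil hF]
  | cons a L ih =>
    rw [xL_cons hF, map_mul, ih, sig_xG hF, map_one]

/-- The characteristic `2` case, from two involutions with different ranks. -/
theorem two_of_ranks [Fintype F] [CharP F 2] (f : F ≃+* F) (H : Subgroup (GL D.Idx F)) (hHG : H ≤ D.group F)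
    (hM : ∀ g ∈ D.group F, glMap D f g = g → g ∈ H) (hNS : ∀ u ∈ H, u ∈ D.posUnipotent F → glMap D f u = u)
    (hT2 : T2Tab R D) {P Q : List ℕ} (hP : commB D P = true) (hQ : commB D Q = true)
    (hPl : ∀ r ∈ P, r < D.nroots) (hQl : ∀ r ∈ Q, r < D.nroots) {a b : ℕ}
    (rkP : (((xL hF F P : GL D.Idx F) : Matrix D.Idx D.Idx F) - 1).rank = a)
    (rkQ : (((xL hF F Q : GL D.Idx F) : Matrix D.Idx D.Idx F) - 1).rank = b)
    (hab : a ≠ b) (ha : a ≠ 0) (hb : b ≠ 0) {x : GL D.Idx F} (hx : x ∈ H) : glMap D f x = x := by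
  have hord : ∀ {L : List ℕ} {c : ℕ}, commB D L = true →
      (((xL hF F L : GL D.Idx F) : Matrix D.Idx D.Idx F) - 1).rank = c → c ≠ 0 → orderOf (xL hF F L) = 2 := by
    intro L c h1 h2 h3
    apply orderOf_eq_prime
    · rw [pow_two]
      exact xL_sq_of_commB hF h1
    · intro h4
      rw [h4, Units.val_one, sub_self, Matrix.rank_zero] at h2
      exact h3 h2.symm
  refine over_two hF f H hHG hM hNS hT2 (xL_mem_group hF hPl) (xL_mem_group hF hQl) (sig_xL hF f P) (sig_xL hF f Q)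
    (hord hP rkP ha) (hord hQ rkQ hb) ?_ hx
  intro g _ he
  have h3 := rank_conj (xL hF F P) g
  rw [he, rkQ, rkP] at h3
  exact hab h3.symm

/-- The characteristic `2` case, from two root elements in different classes. -/
theorem two_of_roots [Fintype F] [CharP F 2] (f : F ≃+* F) (H : Subgroup (GL D.Idx F)) (hHG : H ≤ D.group F)
    (hM : ∀ g ∈ D.group F, glMap D f g = g → g ∈ H) (hNS : ∀ u ∈ H, u ∈ D.posUnipotent F → glMap D f u = u)
    (hT2 : T2Tab R D) {top s : ℕ} (htop : top < D.nroots) (hs : s < D.nroots)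
    (hnc : ∀ g ∈ D.group F, g * hF.c.xG top (1 : F) * g⁻¹ = hF.c.xG s 1 → False)
    {x : GL D.Idx F} (hx : x ∈ H) : glMap D f x = x := by
  have hord : ∀ {r : ℕ}, r < D.nroots → orderOf (hF.c.xG r (1 : F)) = 2 := by
    intro r hr
    apply orderOf_eq_prime
    · rw [pow_two, hF.c.xG_add, CharTwo.add_self_eq_zero, hF.c.xG_zero]
    · intro h4
      rw [← hF.c.xG_zero (r := r)] at h4
      exact one_ne_zero (hF.xG_param_inj hr h4)
  refine over_two hF f H hHG hM hNS hT2 (hF.c.xG_mem_group htop 1) (hF.c.xG_mem_group hs 1)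
    (by rw [sig_xG hF, map_one]) (by rw [sig_xG hF, map_one]) (hord htop) (hord hs) ?_ hx
  intro g hg he
  exact hnc g hg he

/-- The odd characteristic case, generic type. -/
theorem odd_generic [Finite F] (hm : ChevMonoN.checkMono T X D = true) (h2 : (2 : F) ≠ 0)
    {j0 b1 top : ℕ} {L : ℕ → Prop} (hE : ETab R D X j0 b1) (htop : top < D.nroots)
    (hmax : ∀ s < D.nroots, s ≤ top) (hpos : R.N ≤ top) (hbot : D.neg top = 0) (hb1top : b1 ≠ top)
    (hT2 : T2Tab R D) (hC : ChainT D L)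
    (hdown : ∀ r < D.nroots, L r → r ≠ 0 → ∃ i < D.rank, X.wf i r < r ∧ L (X.wf i r))
    (hup : ∀ r < D.nroots, L r → ∀ i < D.rank, L (X.wf i r)) (hLtop : L top)
    (hcart0 : 0 < D.cartan j0 top) (hcart : ∀ j < D.rank, j ≠ j0 → D.cartan j top = 0)
    (f : F ≃+* F) (H : Subgroup (GL D.Idx F)) (hHG : H ≤ D.group F)
    (hM : ∀ g ∈ D.group F, glMap D f g = g → g ∈ H)
    (hNS : ∀ u ∈ H, u ∈ D.posUnipotent F → glMap D f u = u) {x : GL D.Idx F} (hx : x ∈ H) :
    glMap D f x = x := by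
  have h0 : 0 < D.nroots := by omega
  exact fixed_main hF htop hmax hpos f H hHG hM hNS hT2 hm h2 h0 hbot hC hdown hup hLtop hE.hj0 hcart0 hcart
    (fun y hy h3 h4 h5 => exc_generic hF hm h2 hE htop hmax hpos hbot hb1top f H hHG hM hNS h0 hy h3 h4 h5) hx

end Cfsg.Agent.Lib.ChevSub
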