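import Mathlib
import Cfsg.Agent.Lib.ChevSub.PartOne
import Cfsg.Agent.Lib.ChevSub.CloseB2
import Cfsg.Agent.Lib.ChevSub.ExcB2

/-!
# The overgroup dichotomy in type B2
-/

set_option autoImplicit false
set_option maxRecDepth 100000
set_option linter.unusedSectionVars false
set_option linter.unusedVariables false
set_option linter.unnecessarySimpa false

namespace Cfsg.Agent.Lib.ChevSub.DatB2

open Cfsg Cfsg.Lie Matrix Cfsg.Agent.Lib.Chev Cfsg.Agent.Lib.Chev.Full
open Cfsg.Agent.Lib.ChevTransfer Cfsg.Agent.Lib.ChevAut.SubField Cfsg.Agent.Lib.ChevInv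
open Cfsg.Agent.Lib.ChevAut.ParabFit
open Cfsg.Agent.Lib.ChevSub Cfsg.Agent.Lib.Chev.TabB2 Cfsg.Agent.Lib.Chev.RootB2T

theorem hF : Full T X R chevB2 := ⟨RelB2.checks, RootB2.checks⟩

theorem htop : 7 < chevB2.nroots := by decide
theorem hpos : R.N ≤ 7 := by decide +kernel
theorem hmax : ∀ s < chevB2.nroots, s ≤ 7 := by
  intro s hs
  have : s < 8 := hs
  omega
theorem hbot : chevB2.neg 7 = 0 := by decide +kernel
theorem hT2 : T2Tab R chevB2 := by
  unfold T2Tab
  decide +kernel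

def rows : List RowE := [(4, 5, 6, 0, 2, -1), (5, 4, 6, 0, -1, 2)]

theorem rows_ok : ∀ e ∈ rows, RowGood R chevB2 e := by decide +kernel

theorem rows_cov : ∀ k < chevB2.nroots, R.N ≤ k → (k ≠ 7 ∧ k ≠ 6) → ∃ e ∈ rows, e.1 = k := by decide +kernel

theorem rowD : RowVal R chevB2 (6, 5, 7, 0, -1, 1) (-2) := by decide +kernel

theorem cov_s {F : Type*} [Field F] : ∀ k, R.N ≤ k → k < chevB2.nroots → k ≠ 7 → k ≠ 6 →
    ∃ β m i N' M', RowOK R chevB2 k β m i N' M' ∧ ((rowZ chevB2 k β i N' M' : ℤ) : F) ≠ 0 := by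
  intro k h1 h2 h3 h4
  exact cov_of_rows rows_ok (rows_cov k h2 h1 ⟨h3, h4⟩)

theorem cov_ns {F : Type*} [Field F] (hq : (2 : F) ≠ 0) : ∀ k, R.N ≤ k → k < chevB2.nroots → k ≠ 7 →
    ∃ β m i N' M', RowOK R chevB2 k β m i N' M' ∧ ((rowZ chevB2 k β i N' M' : ℤ) : F) ≠ 0 := by
  intro k h1 h2 h3
  by_cases hk : k = 6
  · subst hk
    refine cov_of_val (F := F) rowD ?_
    have e : (((-2 : ℤ) : ℤ) : F) = -(2 : F) := by push_cast; ring
    rw [e]
    exact neg_ne_zero.2 hq
  · exact cov_s k h1 h2 h3 hk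

theorem part_one {F : Type*} [Field F] [Finite F] {p : ℕ} [Fact p.Prime] [CharP F p] (f : F ≃+* F)
    (H : Subgroup (GL chevB2.Idx F)) (hHG : H ≤ chevB2.group F)
    (hM : ∀ g ∈ chevB2.group F, glMap chevB2 f g = g → g ∈ H) (hSub : SubHyp f)
    (hStar : ∃ u ∈ H, u ∈ chevB2.posUnipotent F ∧ glMap chevB2 f u ≠ u) :
    ∀ r < chevB2.nroots, ∀ t : F, hF.c.xG r t ∈ H := by
  by_cases hp : p = 2
  · subst hp
    have hq : (2 : F) = 0 := by
      have := CharP.cast_eq_zero F 2
      exact_mod_cast this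
    have hq' : ((2 : ℕ) : F) = 0 := by exact_mod_cast hq
    rcases star_cases hF f H hHG hM (δ := 6) htop hpos hmax (by decide) (by decide +kernel) (hcentT_of hF htop hmax hpos)
      (fun _ => hcentD_of hF (by decide) (by decide +kernel) hq' (by decide +kernel)) cov_s hStar with
        ⟨s0, hs0, hx⟩ | ⟨-, s0, c0, hs0, hx⟩
    · exact B2.b2_two f H hM hSub (Or.inl ⟨s0, hs0, hx⟩)
    · exact B2.b2_two f H hM hSub (Or.inr ⟨s0, c0, hs0, hx⟩)
  · have hodd : Odd p := (Fact.out : p.Prime).odd_of_ne_two hp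
    have h2 : (2 : F) ≠ 0 := by
      intro h
      have h3 : ((2 : ℕ) : F) = 0 := by exact_mod_cast h
      have h4 := (CharP.cast_eq_zero_iff F p 2).1 h3
      exact hp ((Nat.prime_dvd_prime_iff_eq (Fact.out) Nat.prime_two).1 h4)
    rcases star_cases hF f H hHG hM (δ := 7) htop hpos hmax htop hpos (hcentT_of hF htop hmax hpos)
      (fun h => absurd rfl h) (fun k h1 h2' h3 _ => cov_ns h2 k h1 h2' h3) hStar with ⟨s0, hs0, hx⟩ | ⟨h, -⟩
    · exact B2.b2_odd f H hM hodd hSub hs0 hx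
    · exact absurd rfl h

theorem long_stable : ∀ i < chevB2.rank, ∀ r < chevB2.nroots, chevB2.isLong r = true → chevB2.isLong (X.wf i r) = true := by
  decide +kernel

theorem no_conj_ls {F : Type*} [Field F] [CharP F 2] {g : GL chevB2.Idx F} (hg : g ∈ chevB2.group F)
    (he : g * hF.c.xG 7 (1 : F) * g⁻¹ = hF.c.xG 6 1) : False :=
  no_conj_top hF (L := fun r => chevB2.isLong r = true) long_stable (top := 7) (s := 6) (by decide) hmax
    (by decide +kernel) (by decide) (by decide +kernel) (by decide +kernel) (by decide +kernel) hg (one_ne_zero (α := F)) he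

theorem hC : ChainT chevB2 (fun r => chevB2.isLong r = true) := by
  unfold ChainT
  decide +kernel

theorem hdown : ∀ r < chevB2.nroots, chevB2.isLong r = true → r ≠ 0 → ∃ i < chevB2.rank, X.wf i r < r ∧ chevB2.isLong (X.wf i r) = true := by decide +kernel

theorem hup_all : ∀ r < chevB2.nroots, chevB2.isLong r = true → ∀ i < chevB2.rank, chevB2.isLong (X.wf i r) = true := by decide +kernel

theorem hcart0 : 0 < chevB2.cartan 0 7 := by decide +kernel
theorem hcart : ∀ j < chevB2.rank, j ≠ 0 → chevB2.cartan j 7 = 0 := by decide +kernel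

/-- The dichotomy. -/
theorem dich {F : Type*} [Field F] [Fintype F] {p : ℕ} [Fact p.Prime] [CharP F p] (f : F ≃+* F) (hSub : SubHyp f)
    (hK : ∀ c : F, c ^ 2 = -1 → f c ≠ c → (∀ τ : F, f τ = τ → τ ≠ 0 → τ ^ 2 = 1) →
      ∀ z : F, ∃ α β : F, f α = α ∧ f β = β ∧ z = α + β * c)
    (H : Subgroup (GL chevB2.Idx F)) (hHG : H ≤ chevB2.group F)
    (hM : ∀ g ∈ chevB2.group F, glMap chevB2 f g = g → g ∈ H) :
    (∀ x ∈ H, glMap chevB2 f x = x) ∨ H = chevB2.group F := by
  by_cases hStar : ∃ u ∈ H, u ∈ chevB2.posUnipotent F ∧ glMap chevB2 f u ≠ u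
  · right
    exact eq_group_of_all hF H hHG (part_one f H hHG hM hSub hStar)
  · left
    push Not at hStar
    intro x hx
    by_cases hp : p = 2
    · subst hp
      exact two_of_roots hF f H hHG hM hStar hT2 htop (s := 6) (by decide) (fun g hg he => no_conj_ls hg he) hx
    · have h2 : (2 : F) ≠ 0 := by
        intro h
        have h3 : ((2 : ℕ) : F) = 0 := by exact_mod_cast h
        have h4 := (CharP.cast_eq_zero_iff F p 2).1 h3
        exact hp ((Nat.prime_dvd_prime_iff_eq (Fact.out) Nat.prime_two).1 h4)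
      have h0 : 0 < chevB2.nroots := by decide
      exact fixed_main hF htop hmax hpos f H hHG hM hStar hT2 (ChevMonoN.mono_B2) h2 h0 hbot hC hdown hup_all
        (by decide +kernel) (j0 := 0) (by decide) hcart0 hcart
        (fun y hy h1 h3 h4 => B2.exc_b2 f H hM hStar ChevMonoN.mono_B2 h2 hHG h0 htop hy h1 h3 (hK _ h1 h3 h4)) hx

end Cfsg.Agent.Lib.ChevSub.DatB2
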