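import Mathlib
import Cfsg.Agent.Lib.ChevSub.PartOne
import Cfsg.Agent.Lib.Chev.RelD4
import Cfsg.Agent.Lib.Chev.RootD4
import Cfsg.Agent.Lib.ChevSub.RankD4

/-!
# The overgroup dichotomy in type D4
-/

set_option autoImplicit false
set_option maxRecDepth 100000
set_option linter.unusedSectionVars false
set_option linter.unusedVariables false
set_option linter.unnecessarySimpa false

namespace Cfsg.Agent.Lib.ChevSub.DatD4

open Cfsg Cfsg.Lie Matrix Cfsg.Agent.Lib.Chev Cfsg.Agent.Lib.Chev.Full
open Cfsg.Agent.Lib.ChevTransfer Cfsg.Agent.Lib.ChevAut.SubField Cfsg.Agent.Lib.ChevInv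
open Cfsg.Agent.Lib.ChevAut.ParabFit
open Cfsg.Agent.Lib.ChevSub Cfsg.Agent.Lib.Chev.TabD4 Cfsg.Agent.Lib.Chev.RootD4T

theorem hF : Full T X R chevD4 := ⟨RelD4.checks, RootD4.checks⟩

theorem htop : 23 < chevD4.nroots := by decide
theorem hpos : R.N ≤ 23 := by decide +kernel
theorem hmax : ∀ s < chevD4.nroots, s ≤ 23 := by
  intro s hs
  have : s < 24 := hs
  omega
theorem hbot : chevD4.neg 23 = 0 := by decide +kernel

theorem hT2 : T2Tab R chevD4 := T2_of_wf hF (by decide +kernel)

def rows : List RowE := [(12, 14, 15, 1, 1, -1), (13, 14, 16, 1, 1, -1), (14, 12, 15, 1, -1, 1), (15, 13, 17, 1, -1, 1), (16, 12, 17, 1, -1, 1), (17, 18, 22, 0, 1, -1), (18, 14, 19, 0, -1, 1), (19, 12, 20, 0, -1, 1), (20, 13, 22, 0, -1, 1), (21, 12, 22, 0, -1, 1), (22, 14, 23, 0, -1, 1)]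

theorem rows_ok : ∀ e ∈ rows, RowGood R chevD4 e := by decide +kernel

theorem rows_cov : ∀ k < chevD4.nroots, R.N ≤ k → k ≠ 23 → ∃ e ∈ rows, e.1 = k := by decide +kernel

theorem cov {F : Type*} [Field F] : ∀ k, R.N ≤ k → k < chevD4.nroots → k ≠ 23 →
    ∃ β m i N' M', RowOK R chevD4 k β m i N' M' ∧ ((rowZ chevD4 k β i N' M' : ℤ) : F) ≠ 0 := by
  intro k h1 h2 h3
  exact cov_of_rows rows_ok (rows_cov k h2 h1 h3)

theorem hup : ∀ r < chevD4.nroots, r ≠ 23 → ∃ i < chevD4.rank, r < X.wf i r := by decide +kernel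

theorem hterms : chevD4.commTerms 0 14 = [(1, 1, 1, 1)] := by decide +kernel


theorem etab : ETab R chevD4 X 1 22 where
  hj0 := by decide
  h1 := by decide
  chain2 := by decide +kernel
  n3 := by decide +kernel
  n4 := by decide +kernel
  rc := by decide +kernel
  pos := by decide +kernel
  hb1 := by decide
  hb1N := by decide +kernel
  chain1 := by decide +kernel
  chain1' := by decide +kernel
  chain0 := by decide +kernel
  n1 := by decide +kernel
  n2 := by decide +kernel
  comm := by decide +kernel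
  comm0 := by decide +kernel
  comm1 := by decide +kernel
  comm2 := by decide +kernel
  wf0 := by decide +kernel
  n5 := by decide
  n6 := by decide +kernel
  n7 := by decide +kernel
  n8 := by decide +kernel

theorem hcart0 : 0 < chevD4.cartan 1 23 := by decide +kernel
theorem hcart : ∀ j < chevD4.rank, j ≠ 1 → chevD4.cartan j 23 = 0 := by decide +kernel

theorem hC : ChainT chevD4 (fun _ => True) := by
  unfold ChainT
  decide +kernel

theorem hdown : ∀ r < chevD4.nroots, True → r ≠ 0 → ∃ i < chevD4.rank, X.wf i r < r ∧ True := by decide +kernel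

theorem part_one {F : Type*} [Field F] (f : F ≃+* F) (H : Subgroup (GL chevD4.Idx F)) (hHG : H ≤ chevD4.group F)
    (hM : ∀ g ∈ chevD4.group F, glMap chevD4 f g = g → g ∈ H) (hSub : SubHyp f)
    (hStar : ∃ u ∈ H, u ∈ chevD4.posUnipotent F ∧ glMap chevD4 f u ≠ u) :
    ∀ r < chevD4.nroots, ∀ t : F, hF.c.xG r t ∈ H :=
  part_one_sl hF f H hHG hM htop hpos hmax cov hup (by decide) (by decide) (by decide) (by decide) (by decide +kernel)
    hterms (by norm_num) hSub hStar

/-- The dichotomy. -/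
theorem dich {F : Type*} [Field F] [Fintype F] {p : ℕ} [Fact p.Prime] [CharP F p] (f : F ≃+* F) (hSub : SubHyp f)
    (H : Subgroup (GL chevD4.Idx F)) (hHG : H ≤ chevD4.group F)
    (hM : ∀ g ∈ chevD4.group F, glMap chevD4 f g = g → g ∈ H) :
    (∀ x ∈ H, glMap chevD4 f x = x) ∨ H = chevD4.group F := by
  by_cases hStar : ∃ u ∈ H, u ∈ chevD4.posUnipotent F ∧ glMap chevD4 f u ≠ u
  · right
    exact eq_group_of_all hF H hHG (part_one f H hHG hM hSub hStar)
  · left
    push Not at hStar
    intro x hx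
    by_cases hp : p = 2
    · subst hp
      exact two_of_ranks hF f H hHG hM hStar hT2 (P := [23]) (Q := [13, 12]) (by decide +kernel) (by decide +kernel)
        (by decide +kernel) (by decide +kernel) RankD4.rk0 RankD4.rk1 (by norm_num) (by norm_num) (by norm_num) hx
    · have h2 : (2 : F) ≠ 0 := by
        intro h
        have h3 : ((2 : ℕ) : F) = 0 := by exact_mod_cast h
        have h4 := (CharP.cast_eq_zero_iff F p 2).1 h3
        exact hp ((Nat.prime_dvd_prime_iff_eq (Fact.out) Nat.prime_two).1 h4)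
      exact odd_generic hF (ChevMonoN.mono_D4) h2 etab htop hmax hpos hbot (by decide) hT2 hC hdown
        (fun _ _ _ _ _ => trivial) trivial hcart0 hcart f H hHG hM hStar hx

end Cfsg.Agent.Lib.ChevSub.DatD4
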