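import Mathlib
import Cfsg.Agent.Lib.ChevSub.PartOne
import Cfsg.Agent.Lib.Chev.RelE6
import Cfsg.Agent.Lib.Chev.RootE6
import Cfsg.Agent.Lib.ChevInv.InvE6

/-!
# The overgroup dichotomy in type E6
-/

set_option autoImplicit false
set_option maxRecDepth 100000
set_option linter.unusedSectionVars false
set_option linter.unusedVariables false
set_option linter.unnecessarySimpa false

namespace Cfsg.Agent.Lib.ChevSub.DatE6

open Cfsg Cfsg.Lie Matrix Cfsg.Agent.Lib.Chev Cfsg.Agent.Lib.Chev.Full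
open Cfsg.Agent.Lib.ChevTransfer Cfsg.Agent.Lib.ChevAut.SubField Cfsg.Agent.Lib.ChevInv
open Cfsg.Agent.Lib.ChevAut.ParabFit
open Cfsg.Agent.Lib.ChevSub Cfsg.Agent.Lib.Chev.TabE6 Cfsg.Agent.Lib.Chev.RootE6T

theorem hF : Full T X R chevE6 := ⟨RelE6.checks, RootE6.checks⟩

theorem htop : 71 < chevE6.nroots := by decide
theorem hpos : R.N ≤ 71 := by decide +kernel
theorem hmax : ∀ s < chevE6.nroots, s ≤ 71 := by
  intro s hs
  have : s < 72 := hs
  omega
theorem hbot : chevE6.neg 71 = 0 := by decide +kernel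

theorem hT2 : T2Tab R chevE6 := T2_of_wf hF (by decide +kernel)

def rows : List RowE := [(36, 37, 38, 4, 1, -1), (37, 36, 38, 4, -1, 1), (38, 39, 41, 3, 1, -1), (39, 37, 40, 3, -1, 1), (40, 36, 41, 3, -1, 1), (41, 42, 45, 2, 1, -1), (42, 39, 43, 2, -1, 1), (43, 37, 44, 2, -1, 1), (44, 36, 45, 2, -1, 1), (45, 46, 52, 1, -1, 1), (46, 39, 47, 1, -1, 1), (47, 37, 48, 1, -1, 1), (48, 36, 49, 1, -1, 1), (49, 42, 52, 1, -1, 1), (50, 37, 51, 1, -1, 1), (51, 36, 52, 1, -1, 1), (52, 39, 54, 1, -1, 1), (53, 36, 54, 1, -1, 1), (54, 37, 55, 1, -1, 1), (55, 56, 66, 0, 1, -1), (56, 42, 57, 0, -1, 1), (57, 39, 58, 0, -1, 1), (58, 37, 59, 0, -1, 1), (59, 36, 60, 0, -1, 1), (60, 46, 63, 0, -1, 1), (61, 37, 62, 0, -1, 1), (62, 36, 63, 0, -1, 1), (63, 39, 65, 0, -1, 1), (64, 36, 65, 0, -1, 1), (65, 37, 66, 0, -1, 1), (66, 42, 69, 0, -1, 1), (67, 36, 68, 0, -1, 1), (68, 37, 69, 0, -1, 1), (69, 39, 70, 0, -1, 1), (70, 46, 71, 0, -1, 1)]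

theorem rows_ok : ∀ e ∈ rows, RowGood R chevE6 e := by decide +kernel

theorem rows_cov : ∀ k < chevE6.nroots, R.N ≤ k → k ≠ 71 → ∃ e ∈ rows, e.1 = k := by decide +kernel

theorem cov {F : Type*} [Field F] : ∀ k, R.N ≤ k → k < chevE6.nroots → k ≠ 71 →
    ∃ β m i N' M', RowOK R chevE6 k β m i N' M' ∧ ((rowZ chevE6 k β i N' M' : ℤ) : F) ≠ 0 := by
  intro k h1 h2 h3
  exact cov_of_rows rows_ok (rows_cov k h2 h1 h3)

theorem hup : ∀ r < chevE6.nroots, r ≠ 71 → ∃ i < chevE6.rank, r < X.wf i r := by decide +kernel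

theorem hterms : chevE6.commTerms 0 46 = [(1, 1, 1, 1)] := by decide +kernel


theorem etab : ETab R chevE6 X 1 70 where
  hj0 := by decide
  h1 := by decide
  chain2 := by decide +kernel
  n3 := by decide +kernel
  n4 := by decide +kernel
  rc := by decide +kernel
  pos := by decide +kernel
  hb1 := by decide
  hb1N := by decide +kernel
  chain1 := by decide +kernel
  chain1' := by decide +kernel
  chain0 := by decide +kernel
  n1 := by decide +kernel
  n2 := by decide +kernel
  comm := by decide +kernel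
  comm0 := by decide +kernel
  comm1 := by decide +kernel
  comm2 := by decide +kernel
  wf0 := by decide +kernel
  n5 := by decide
  n6 := by decide +kernel
  n7 := by decide +kernel
  n8 := by decide +kernel

theorem hcart0 : 0 < chevE6.cartan 1 71 := by decide +kernel
theorem hcart : ∀ j < chevE6.rank, j ≠ 1 → chevE6.cartan j 71 = 0 := by decide +kernel

theorem hC : ChainT chevE6 (fun _ => True) := by
  unfold ChainT
  decide +kernel

theorem hdown : ∀ r < chevE6.nroots, True → r ≠ 0 → ∃ i < chevE6.rank, X.wf i r < r ∧ True := by decide +kernel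

theorem part_one {F : Type*} [Field F] (f : F ≃+* F) (H : Subgroup (GL chevE6.Idx F)) (hHG : H ≤ chevE6.group F)
    (hM : ∀ g ∈ chevE6.group F, glMap chevE6 f g = g → g ∈ H) (hSub : SubHyp f)
    (hStar : ∃ u ∈ H, u ∈ chevE6.posUnipotent F ∧ glMap chevE6 f u ≠ u) :
    ∀ r < chevE6.nroots, ∀ t : F, hF.c.xG r t ∈ H :=
  part_one_sl hF f H hHG hM htop hpos hmax cov hup (by decide) (by decide) (by decide) (by decide) (by decide +kernel)
    hterms (by norm_num) hSub hStar

/-- The dichotomy. -/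
theorem dich {F : Type*} [Field F] [Fintype F] {p : ℕ} [Fact p.Prime] [CharP F p] (f : F ≃+* F) (hSub : SubHyp f)
    (H : Subgroup (GL chevE6.Idx F)) (hHG : H ≤ chevE6.group F)
    (hM : ∀ g ∈ chevE6.group F, glMap chevE6 f g = g → g ∈ H) :
    (∀ x ∈ H, glMap chevE6 f x = x) ∨ H = chevE6.group F := by
  by_cases hStar : ∃ u ∈ H, u ∈ chevE6.posUnipotent F ∧ glMap chevE6 f u ≠ u
  · right
    exact eq_group_of_all hF H hHG (part_one f H hHG hM hSub hStar)
  · left
    push Not at hStar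
    intro x hx
    by_cases hp : p = 2
    · subst hp
      exact two_of_ranks hF f H hHG hM hStar hT2 (P := [71]) (Q := [68, 66]) (by decide +kernel) (by decide +kernel)
        (by decide +kernel) (by decide +kernel) InvE6.rk0 InvE6.rk1 (by norm_num) (by norm_num) (by norm_num) hx
    · have h2 : (2 : F) ≠ 0 := by
        intro h
        have h3 : ((2 : ℕ) : F) = 0 := by exact_mod_cast h
        have h4 := (CharP.cast_eq_zero_iff F p 2).1 h3
        exact hp ((Nat.prime_dvd_prime_iff_eq (Fact.out) Nat.prime_two).1 h4)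
      exact odd_generic hF (ChevMonoN.mono_E6) h2 etab htop hmax hpos hbot (by decide) hT2 hC hdown
        (fun _ _ _ _ _ => trivial) trivial hcart0 hcart f H hHG hM hStar hx

end Cfsg.Agent.Lib.ChevSub.DatE6
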