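import Mathlib
import Cfsg.Agent.Lib.ChevSub.PartOne
import Cfsg.Agent.Lib.Chev.RelE7
import Cfsg.Agent.Lib.Chev.RootE7
import Cfsg.Agent.Lib.ChevInv.InvE7

/-!
# The overgroup dichotomy in type E7
-/

set_option autoImplicit false
set_option maxRecDepth 100000
set_option linter.unusedSectionVars false
set_option linter.unusedVariables false
set_option linter.unnecessarySimpa false

namespace Cfsg.Agent.Lib.ChevSub.DatE7

open Cfsg Cfsg.Lie Matrix Cfsg.Agent.Lib.Chev Cfsg.Agent.Lib.Chev.Full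
open Cfsg.Agent.Lib.ChevTransfer Cfsg.Agent.Lib.ChevAut.SubField Cfsg.Agent.Lib.ChevInv
open Cfsg.Agent.Lib.ChevAut.ParabFit
open Cfsg.Agent.Lib.ChevSub Cfsg.Agent.Lib.Chev.TabE7 Cfsg.Agent.Lib.Chev.RootE7T

theorem hF : Full T X R chevE7 := ⟨RelE7.checks, RootE7.checks⟩

theorem htop : 125 < chevE7.nroots := by decide
theorem hpos : R.N ≤ 125 := by decide +kernel
theorem hmax : ∀ s < chevE7.nroots, s ≤ 125 := by
  intro s hs
  have : s < 126 := hs
  omega
theorem hbot : chevE7.neg 125 = 0 := by decide +kernel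

theorem hT2 : T2Tab R chevE7 := T2_of_wf hF (by decide +kernel)

def rows : List RowE := [(63, 64, 65, 5, 1, -1), (64, 63, 65, 5, -1, 1), (65, 66, 68, 4, 1, -1), (66, 64, 67, 4, -1, 1), (67, 63, 68, 4, -1, 1), (68, 69, 72, 3, 1, -1), (69, 66, 70, 3, -1, 1), (70, 64, 71, 3, -1, 1), (71, 63, 72, 3, -1, 1), (72, 73, 77, 2, 1, -1), (73, 69, 74, 2, -1, 1), (74, 66, 75, 2, -1, 1), (75, 64, 76, 2, -1, 1), (76, 63, 77, 2, -1, 1), (77, 78, 86, 1, -1, 1), (78, 69, 79, 1, -1, 1), (79, 66, 80, 1, -1, 1), (80, 64, 81, 1, -1, 1), (81, 63, 82, 1, -1, 1), (82, 73, 86, 1, -1, 1), (83, 66, 84, 1, -1, 1), (84, 64, 85, 1, -1, 1), (85, 63, 86, 1, -1, 1), (86, 69, 89, 1, -1, 1), (87, 64, 88, 1, -1, 1), (88, 63, 89, 1, -1, 1), (89, 66, 91, 1, -1, 1), (90, 63, 91, 1, -1, 1), (91, 64, 92, 1, -1, 1), (92, 93, 108, 0, 1, -1), (93, 73, 94, 0, -1, 1), (94, 69, 95, 0, -1, 1), (95, 66, 96, 0, -1, 1), (96, 64, 97, 0, -1, 1), (97, 63, 98, 0, -1, 1), (98, 78, 102, 0, -1, 1), (99,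 66, 100, 0, -1, 1), (100, 64, 101, 0, -1, 1), (101, 63, 102, 0, -1, 1), (102, 69, 105, 0, -1, 1), (103, 64, 104, 0, -1, 1), (104, 63, 105, 0, -1, 1), (105, 66, 107, 0, -1, 1), (106, 63, 107, 0, -1, 1), (107, 64, 108, 0, -1, 1), (108, 73, 114, 0, -1, 1), (109, 64, 110, 0, -1, 1), (110, 63, 111, 0, -1, 1), (111, 66, 113, 0, -1, 1), (112, 63, 113, 0, -1, 1), (113, 64, 114, 0, -1, 1), (114, 69, 117, 0, -1, 1), (115, 63, 116, 0, -1, 1), (116, 64, 117, 0, -1, 1), (117, 66, 118, 0, -1, 1), (118, 78, 122, 0, -1, 1), (119, 63, 120, 0, -1, 1), (120, 64, 121, 0, -1, 1), (121, 66, 122, 0, -1, 1), (122, 69, 123, 0, -1, 1), (123, 73, 124, 0, -1, 1), (124, 93, 125, 6, -1, 1)]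

theorem rows_ok : ∀ e ∈ rows, RowGood R chevE7 e := by decide +kernel

theorem rows_cov : ∀ k < chevE7.nroots, R.N ≤ k → k ≠ 125 → ∃ e ∈ rows, e.1 = k := by decide +kernel

theorem cov {F : Type*} [Field F] : ∀ k, R.N ≤ k → k < chevE7.nroots → k ≠ 125 →
    ∃ β m i N' M', RowOK R chevE7 k β m i N' M' ∧ ((rowZ chevE7 k β i N' M' : ℤ) : F) ≠ 0 := by
  intro k h1 h2 h3
  exact cov_of_rows rows_ok (rows_cov k h2 h1 h3)

theorem hup : ∀ r < chevE7.nroots, r ≠ 125 → ∃ i < chevE7.rank, r < X.wf i r := by decide +kernel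

theorem hterms : chevE7.commTerms 0 93 = [(1, 1, 1, 1)] := by decide +kernel


theorem etab : ETab R chevE7 X 0 124 where
  hj0 := by decide
  h1 := by decide
  chain2 := by decide +kernel
  n3 := by decide +kernel
  n4 := by decide +kernel
  rc := by decide +kernel
  pos := by decide +kernel
  hb1 := by decide
  hb1N := by decide +kernel
  chain1 := by decide +kernel
  chain1' := by decide +kernel
  chain0 := by decide +kernel
  n1 := by decide +kernel
  n2 := by decide +kernel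
  comm := by decide +kernel
  comm0 := by decide +kernel
  comm1 := by decide +kernel
  comm2 := by decide +kernel
  wf0 := by decide +kernel
  n5 := by decide
  n6 := by decide +kernel
  n7 := by decide +kernel
  n8 := by decide +kernel

theorem hcart0 : 0 < chevE7.cartan 0 125 := by decide +kernel
theorem hcart : ∀ j < chevE7.rank, j ≠ 0 → chevE7.cartan j 125 = 0 := by decide +kernel

theorem hC : ChainT chevE7 (fun _ => True) := by
  unfold ChainT
  decide +kernel

theorem hdown : ∀ r < chevE7.nroots, True → r ≠ 0 → ∃ i < chevE7.rank, X.wf i r < r ∧ True := by decide +kernel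

theorem part_one {F : Type*} [Field F] (f : F ≃+* F) (H : Subgroup (GL chevE7.Idx F)) (hHG : H ≤ chevE7.group F)
    (hM : ∀ g ∈ chevE7.group F, glMap chevE7 f g = g → g ∈ H) (hSub : SubHyp f)
    (hStar : ∃ u ∈ H, u ∈ chevE7.posUnipotent F ∧ glMap chevE7 f u ≠ u) :
    ∀ r < chevE7.nroots, ∀ t : F, hF.c.xG r t ∈ H :=
  part_one_sl hF f H hHG hM htop hpos hmax cov hup (by decide) (by decide) (by decide) (by decide) (by decide +kernel)
    hterms (by norm_num) hSub hStar

/-- The dichotomy. -/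
theorem dich {F : Type*} [Field F] [Fintype F] {p : ℕ} [Fact p.Prime] [CharP F p] (f : F ≃+* F) (hSub : SubHyp f)
    (H : Subgroup (GL chevE7.Idx F)) (hHG : H ≤ chevE7.group F)
    (hM : ∀ g ∈ chevE7.group F, glMap chevE7 f g = g → g ∈ H) :
    (∀ x ∈ H, glMap chevE7 f x = x) ∨ H = chevE7.group F := by
  by_cases hStar : ∃ u ∈ H, u ∈ chevE7.posUnipotent F ∧ glMap chevE7 f u ≠ u
  · right
    exact eq_group_of_all hF H hHG (part_one f H hHG hM hSub hStar)
  · left
    push Not at hStar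
    intro x hx
    by_cases hp : p = 2
    · subst hp
      exact two_of_ranks hF f H hHG hM hStar hT2 (P := [125]) (Q := [92, 125]) (by decide +kernel) (by decide +kernel)
        (by decide +kernel) (by decide +kernel) InvE7.rk0 InvE7.rk1 (by norm_num) (by norm_num) (by norm_num) hx
    · have h2 : (2 : F) ≠ 0 := by
        intro h
        have h3 : ((2 : ℕ) : F) = 0 := by exact_mod_cast h
        have h4 := (CharP.cast_eq_zero_iff F p 2).1 h3
        exact hp ((Nat.prime_dvd_prime_iff_eq (Fact.out) Nat.prime_two).1 h4)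
      exact odd_generic hF (ChevMonoN.mono_E7) h2 etab htop hmax hpos hbot (by decide) hT2 hC hdown
        (fun _ _ _ _ _ => trivial) trivial hcart0 hcart f H hHG hM hStar hx

end Cfsg.Agent.Lib.ChevSub.DatE7
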