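import Mathlib
import Cfsg.Agent.Lib.ChevSub.PartOne
import Cfsg.Agent.Lib.Chev.RelE8
import Cfsg.Agent.Lib.Chev.RootE8
import Cfsg.Agent.Lib.ChevInv.InvE8R0
import Cfsg.Agent.Lib.ChevInv.InvE8R1

/-!
# The overgroup dichotomy in type E8
-/

set_option autoImplicit false
set_option maxRecDepth 100000
set_option linter.unusedSectionVars false
set_option linter.unusedVariables false
set_option linter.unnecessarySimpa false

namespace Cfsg.Agent.Lib.ChevSub.DatE8

open Cfsg Cfsg.Lie Matrix Cfsg.Agent.Lib.Chev Cfsg.Agent.Lib.Chev.Full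
open Cfsg.Agent.Lib.ChevTransfer Cfsg.Agent.Lib.ChevAut.SubField Cfsg.Agent.Lib.ChevInv
open Cfsg.Agent.Lib.ChevAut.ParabFit
open Cfsg.Agent.Lib.ChevSub Cfsg.Agent.Lib.Chev.TabE8 Cfsg.Agent.Lib.Chev.RootE8T

theorem hF : Full T X R chevE8 := ⟨RelE8.checks, RootE8.checks⟩

theorem htop : 239 < chevE8.nroots := by decide
theorem hpos : R.N ≤ 239 := by decide +kernel
theorem hmax : ∀ s < chevE8.nroots, s ≤ 239 := by
  intro s hs
  have : s < 240 := hs
  omega
theorem hbot : chevE8.neg 239 = 0 := by decide +kernel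

theorem hT2 : T2Tab R chevE8 := T2_of_wf hF (by decide +kernel)

def rows : List RowE := [(120, 121, 122, 6, 1, -1), (121, 120, 122, 6, -1, 1), (122, 123, 125, 5, 1, -1), (123, 121, 124, 5, -1, 1), (124, 120, 125, 5, -1, 1), (125, 126, 129, 4, 1, -1), (126, 123, 127, 4, -1, 1), (127, 121, 128, 4, -1, 1), (128, 120, 129, 4, -1, 1), (129, 130, 134, 3, 1, -1), (130, 126, 131, 3, -1, 1), (131, 123, 132, 3, -1, 1), (132, 121, 133, 3, -1, 1), (133, 120, 134, 3, -1, 1), (134, 135, 140, 2, 1, -1), (135, 130, 136, 2, -1, 1), (136, 126, 137, 2, -1, 1), (137, 123, 138, 2, -1, 1), (138, 121, 139, 2, -1, 1), (139, 120, 140, 2, -1, 1), (140, 141, 151, 1, -1, 1), (141, 130, 142, 1, -1, 1), (142, 126, 143, 1, -1, 1), (143, 123, 144, 1, -1, 1), (144, 121, 145, 1, -1, 1), (145, 120, 146, 1, -1, 1), (146, 135, 151, 1, -1, 1), (147, 126, 148, 1, -1, 1), (148, 123, 149, 1, -1, 1), (149, 121, 150, 1, -1, 1), (150, 120, 151, 1, -1, 1), (151, 130, 155, 1, -1, 1), (152, 123,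 153, 1, -1, 1), (153, 121, 154, 1, -1, 1), (154, 120, 155, 1, -1, 1), (155, 126, 158, 1, -1, 1), (156, 121, 157, 1, -1, 1), (157, 120, 158, 1, -1, 1), (158, 123, 160, 1, -1, 1), (159, 120, 160, 1, -1, 1), (160, 121, 161, 1, -1, 1), (161, 162, 183, 0, 1, -1), (162, 135, 163, 0, -1, 1), (163, 130, 164, 0, -1, 1), (164, 126, 165, 0, -1, 1), (165, 123, 166, 0, -1, 1), (166, 121, 167, 0, -1, 1), (167, 120, 168, 0, -1, 1), (168, 141, 173, 0, -1, 1), (169, 126, 170, 0, -1, 1), (170, 123, 171, 0, -1, 1), (171, 121, 172, 0, -1, 1), (172, 120, 173, 0, -1, 1), (173, 130, 177, 0, -1, 1), (174, 123, 175, 0, -1, 1), (175, 121, 176, 0, -1, 1), (176, 120, 177, 0, -1, 1), (177, 126, 180, 0, -1, 1), (178, 121, 179, 0, -1, 1), (179, 120, 180, 0, -1, 1), (180, 123, 182, 0, -1, 1), (181, 120, 182, 0, -1, 1), (182, 121, 183, 0, -1, 1), (183, 135, 193, 0, -1, 1), (184, 123, 185, 0, -1, 1), (185, 121, 186, 0, -1, 1), (186, 120, 187, 0, -1, 1), (187, 126, 190, 0, -1, 1), (188,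 121, 189, 0, -1, 1), (189, 120, 190, 0, -1, 1), (190, 123, 192, 0, -1, 1), (191, 120, 192, 0, -1, 1), (192, 121, 193, 0, -1, 1), (193, 130, 199, 0, -1, 1), (194, 121, 195, 0, -1, 1), (195, 120, 196, 0, -1, 1), (196, 123, 198, 0, -1, 1), (197, 120, 198, 0, -1, 1), (198, 121, 199, 0, -1, 1), (199, 126, 202, 0, -1, 1), (200, 120, 201, 0, -1, 1), (201, 121, 202, 0, -1, 1), (202, 123, 203, 0, -1, 1), (203, 141, 213, 0, -1, 1), (204, 121, 205, 0, -1, 1), (205, 120, 206, 0, -1, 1), (206, 123, 208, 0, -1, 1), (207, 120, 208, 0, -1, 1), (208, 121, 209, 0, -1, 1), (209, 126, 212, 0, -1, 1), (210, 120, 211, 0, -1, 1), (211, 121, 212, 0, -1, 1), (212, 123, 213, 0, -1, 1), (213, 130, 217, 0, -1, 1), (214, 120, 215, 0, -1, 1), (215, 121, 216, 0, -1, 1), (216, 123, 217, 0, -1, 1), (217, 126, 218, 0, -1, 1), (218, 135, 223, 0, -1, 1), (219, 120, 220, 0, -1, 1), (220, 121, 221, 0, -1, 1), (221, 123, 222, 0, -1, 1), (222, 126, 223, 0, -1, 1), (223, 130, 224, 0, -1, 1),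 (224, 141, 225, 0, -1, 1), (225, 162, 233, 7, -1, 1), (226, 120, 227, 6, -1, 1), (227, 121, 228, 7, -1, 1), (228, 123, 229, 7, -1, 1), (229, 126, 230, 7, -1, 1), (230, 130, 231, 7, -1, 1), (231, 135, 232, 7, -1, 1), (232, 141, 234, 7, -1, 1), (233, 135, 234, 7, -1, 1), (234, 130, 235, 7, -1, 1), (235, 126, 236, 7, -1, 1), (236, 123, 237, 7, -1, 1), (237, 121, 238, 7, -1, 1)]

theorem rows_ok : ∀ e ∈ rows, RowGood R chevE8 e := by decide +kernel

theorem rows_cov : ∀ k < chevE8.nroots, R.N ≤ k → k ≠ 239 → k ≠ 238 → ∃ e ∈ rows, e.1 = k := by decide +kernel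

theorem rowA : RowVal R chevE8 (238, 120, 239, 1, -1, 1) (-3) := by decide +kernel
theorem rowB : RowVal R chevE8 (238, 120, 239, 0, -1, 1) (-2) := by decide +kernel

theorem cov {F : Type*} [Field F] : ∀ k, R.N ≤ k → k < chevE8.nroots → k ≠ 239 →
    ∃ β m i N' M', RowOK R chevE8 k β m i N' M' ∧ ((rowZ chevE8 k β i N' M' : ℤ) : F) ≠ 0 := by
  intro k h1 h2 h3
  by_cases hk : k = 238
  · subst hk
    exact cov_two (F := F) rowA rowB rfl (a := 1) (b := -2) (by norm_num)
  · exact cov_of_rows rows_ok (rows_cov k h2 h1 h3 hk)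

theorem hup : ∀ r < chevE8.nroots, r ≠ 239 → ∃ i < chevE8.rank, r < X.wf i r := by decide +kernel

theorem hterms : chevE8.commTerms 0 120 = [(1, 1, 1, 1)] := by decide +kernel


theorem etab : ETab R chevE8 X 7 238 where
  hj0 := by decide
  h1 := by decide
  chain2 := by decide +kernel
  n3 := by decide +kernel
  n4 := by decide +kernel
  rc := by decide +kernel
  pos := by decide +kernel
  hb1 := by decide
  hb1N := by decide +kernel
  chain1 := by decide +kernel
  chain1' := by decide +kernel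
  chain0 := by decide +kernel
  n1 := by decide +kernel
  n2 := by decide +kernel
  comm := by decide +kernel
  comm0 := by decide +kernel
  comm1 := by decide +kernel
  comm2 := by decide +kernel
  wf0 := by decide +kernel
  n5 := by decide
  n6 := by decide +kernel
  n7 := by decide +kernel
  n8 := by decide +kernel

theorem hcart0 : 0 < chevE8.cartan 7 239 := by decide +kernel
theorem hcart : ∀ j < chevE8.rank, j ≠ 7 → chevE8.cartan j 239 = 0 := by decide +kernel

theorem hC : ChainT chevE8 (fun _ => True) := by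
  unfold ChainT
  decide +kernel

theorem hdown : ∀ r < chevE8.nroots, True → r ≠ 0 → ∃ i < chevE8.rank, X.wf i r < r ∧ True := by decide +kernel

theorem part_one {F : Type*} [Field F] (f : F ≃+* F) (H : Subgroup (GL chevE8.Idx F)) (hHG : H ≤ chevE8.group F)
    (hM : ∀ g ∈ chevE8.group F, glMap chevE8 f g = g → g ∈ H) (hSub : SubHyp f)
    (hStar : ∃ u ∈ H, u ∈ chevE8.posUnipotent F ∧ glMap chevE8 f u ≠ u) :
    ∀ r < chevE8.nroots, ∀ t : F, hF.c.xG r t ∈ H :=
  part_one_sl hF f H hHG hM htop hpos hmax cov hup (by decide) (by decide) (by decide) (by decide) (by decide +kernel)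
    hterms (by norm_num) hSub hStar

/-- The dichotomy. -/
theorem dich {F : Type*} [Field F] [Fintype F] {p : ℕ} [Fact p.Prime] [CharP F p] (f : F ≃+* F) (hSub : SubHyp f)
    (H : Subgroup (GL chevE8.Idx F)) (hHG : H ≤ chevE8.group F)
    (hM : ∀ g ∈ chevE8.group F, glMap chevE8 f g = g → g ∈ H) :
    (∀ x ∈ H, glMap chevE8 f x = x) ∨ H = chevE8.group F := by
  by_cases hStar : ∃ u ∈ H, u ∈ chevE8.posUnipotent F ∧ glMap chevE8 f u ≠ u
  · right
    exact eq_group_of_all hF H hHG (part_one f H hHG hM hSub hStar)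
  · left
    push Not at hStar
    intro x hx
    by_cases hp : p = 2
    · subst hp
      exact two_of_ranks hF f H hHG hM hStar hT2 (P := [239]) (Q := [232, 233]) (by decide +kernel) (by decide +kernel)
        (by decide +kernel) (by decide +kernel) InvE8.rk0 InvE8.rk1 (by norm_num) (by norm_num) (by norm_num) hx
    · have h2 : (2 : F) ≠ 0 := by
        intro h
        have h3 : ((2 : ℕ) : F) = 0 := by exact_mod_cast h
        have h4 := (CharP.cast_eq_zero_iff F p 2).1 h3
        exact hp ((Nat.prime_dvd_prime_iff_eq (Fact.out) Nat.prime_two).1 h4)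
      exact odd_generic hF (ChevMonoN.mono_E8) h2 etab htop hmax hpos hbot (by decide) hT2 hC hdown
        (fun _ _ _ _ _ => trivial) trivial hcart0 hcart f H hHG hM hStar hx

end Cfsg.Agent.Lib.ChevSub.DatE8
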