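import Mathlib
import Cfsg.Agent.Lib.ChevSub.PartOne
import Cfsg.Agent.Lib.Chev.RelF4
import Cfsg.Agent.Lib.Chev.RootF4
import Cfsg.Agent.Lib.ChevInv.InvF4

/-!
# The overgroup dichotomy in type F4
-/

set_option autoImplicit false
set_option maxRecDepth 100000
set_option linter.unusedSectionVars false
set_option linter.unusedVariables false
set_option linter.unnecessarySimpa false

namespace Cfsg.Agent.Lib.ChevSub.DatF4

open Cfsg Cfsg.Lie Matrix Cfsg.Agent.Lib.Chev Cfsg.Agent.Lib.Chev.Full
open Cfsg.Agent.Lib.ChevTransfer Cfsg.Agent.Lib.ChevAut.SubField Cfsg.Agent.Lib.ChevInv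
open Cfsg.Agent.Lib.ChevAut.ParabFit
open Cfsg.Agent.Lib.ChevSub Cfsg.Agent.Lib.Chev.TabF4 Cfsg.Agent.Lib.Chev.RootF4T

theorem hF : Full T X R chevF4 := ⟨RelF4.checks, RootF4.checks⟩

theorem htop : 47 < chevF4.nroots := by decide
theorem hpos : R.N ≤ 47 := by decide +kernel
theorem hmax : ∀ s < chevF4.nroots, s ≤ 47 := by
  intro s hs
  have : s < 48 := hs
  omega
theorem hbot : chevF4.neg 47 = 0 := by decide +kernel
theorem hT2 : T2Tab R chevF4 := T2_of_wf hF (by decide +kernel)

def rows : List RowE := [(24, 25, 26, 2, 1, -1), (25, 24, 26, 2, -1, 1), (26, 27, 29, 1, 2, -1), (27, 25, 28, 1, -1, 2), (28, 24, 29, 1, -1, 2), (29, 33, 36, 0, 1, -1), (30, 24, 31, 1, -1, 1), (31, 25, 32, 1, -1, 1), (32, 33, 39, 0, 2, -1), (33, 27, 34, 0, -1, 1), (34, 25, 35, 0, -1, 2), (35, 24, 36, 0, -1, 2), (36, 27, 38, 0, -1, 1), (37, 24, 38, 0, -1, 2), (38, 25, 39, 0, -1, 2), (39, 27, 40, 0, -1, 1), (41, 24, 42, 0, -1, 1), (42, 25, 43, 0, -1, 1), (43, 30, 46, 0, 1, -1), (45, 25, 46, 0, -1, 1), (46, 24, 47, 0,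 -1, 1)]

theorem rows_ok : ∀ e ∈ rows, RowGood R chevF4 e := by decide +kernel

theorem rows_cov : ∀ k < chevF4.nroots, R.N ≤ k → (k ≠ 47 ∧ k ≠ 44 ∧ k ≠ 40) → ∃ e ∈ rows, e.1 = k := by decide +kernel

theorem rowA : RowVal R chevF4 (40, 33, 44, 1, -1, 1) (-3) := by decide +kernel
theorem rowB : RowVal R chevF4 (40, 33, 44, 0, -1, 1) (-2) := by decide +kernel

theorem rowD : RowVal R chevF4 (44, 27, 45, 0, -1, 1) (-2) := by decide +kernel

theorem cov_s {F : Type*} [Field F] : ∀ k, R.N ≤ k → k < chevF4.nroots → k ≠ 47 → k ≠ 44 →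
    ∃ β m i N' M', RowOK R chevF4 k β m i N' M' ∧ ((rowZ chevF4 k β i N' M' : ℤ) : F) ≠ 0 := by
  intro k h1 h2 h3 h4
  by_cases hk : k = 40
  · subst hk
    exact cov_two (F := F) rowA rowB rfl (a := 1) (b := -2) (by norm_num)
  · exact cov_of_rows rows_ok (rows_cov k h2 h1 ⟨h3, h4, hk⟩)

theorem cov_ns {F : Type*} [Field F] (hq : (2 : F) ≠ 0) : ∀ k, R.N ≤ k → k < chevF4.nroots → k ≠ 47 →
    ∃ β m i N' M', RowOK R chevF4 k β m i N' M' ∧ ((rowZ chevF4 k β i N' M' : ℤ) : F) ≠ 0 := by
  intro k h1 h2 h3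
  by_cases hk : k = 44
  · subst hk
    refine cov_of_val (F := F) rowD ?_
    have e : (((-2 : ℤ) : ℤ) : F) = -(2 : F) := by push_cast; ring
    rw [e]
    exact neg_ne_zero.2 hq
  · exact cov_s k h1 h2 h3 hk

theorem hup : ∀ r < chevF4.nroots, chevF4.isLong r = true → r ≠ 47 → ∃ i < chevF4.rank, r < X.wf i r ∧ chevF4.isLong (X.wf i r) = true := by decide +kernel
theorem hupS : ∀ r < chevF4.nroots, ¬ chevF4.isLong r = true → r ≠ 44 → ∃ i < chevF4.rank, r < X.wf i r ∧ ¬ chevF4.isLong (X.wf i r) = true := by decide +kernel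
theorem hup_all : ∀ r < chevF4.nroots, chevF4.isLong r = true → ∀ i < chevF4.rank, chevF4.isLong (X.wf i r) = true := by decide +kernel

theorem hterms : chevF4.commTerms 0 24 = [(1, 1, 1, 1)] := by decide +kernel

theorem hterms2 : chevF4.commTerms 3 33 = [(7, 1, 1, 1)] := by decide +kernel
theorem hterms3 : chevF4.commTerms (chevF4.simple 3) 46 = [(47, 1, 1, 1)] := by decide +kernel


theorem part_one {F : Type*} [Field F] [Finite F] (f : F ≃+* F) (H : Subgroup (GL chevF4.Idx F)) (hHG : H ≤ chevF4.group F)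
    (hM : ∀ g ∈ chevF4.group F, glMap chevF4 f g = g → g ∈ H) (hSub : SubHyp f)
    (hStar : ∃ u ∈ H, u ∈ chevF4.posUnipotent F ∧ glMap chevF4 f u ≠ u) :
    ∀ r < chevF4.nroots, ∀ t : F, hF.c.xG r t ∈ H := by
  have caseA : ∀ {s0 : F}, f s0 ≠ s0 → hF.c.xG 47 s0 ∈ H → ∀ r < chevF4.nroots, ∀ t : F, hF.c.xG r t ∈ H := by
    intro s0 hs0 hx
    exact case_A hF f H hM (L := fun r => chevF4.isLong r = true) (top := 47) (δS := 44) (r := 0) (s := 24) (m := 1) (j := 2) (s1 := 8)
      htop (by decide) hup hupS (by decide) (by decide) (by decide) (by decide +kernel) (by decide +kernel) (by decide +kernel)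
      (by decide) (by decide +kernel) hterms (by norm_num) (by decide) (by decide +kernel) (by decide +kernel) (by decide)
      (by decide +kernel) (by decide +kernel) hSub hs0 hx
  by_cases hq : (2 : F) = 0
  · have hq' : (((2 : ℕ) : ℕ) : F) = 0 := by exact_mod_cast hq
    rcases star_cases hF f H hHG hM (δ := 44) htop hpos hmax (by decide) (by decide +kernel) (hcentT_of hF htop hmax hpos)
      (fun _ => hcentD_of hF (by decide) (by decide +kernel) hq' (by decide +kernel)) cov_s hStar with
        ⟨s0, hs0, hx⟩ | ⟨-, s0, c0, hs0, hx⟩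
    · exact caseA hs0 hx
    · exact case_B hF f H hM (L := fun r => chevF4.isLong r = true) (top := 47) (δ := 44) (r := 0) (s := 24) (m := 1) (j := 2) (s1 := 8)
        (r2 := 3) (s2 := 33) (m2 := 7) (j2 := 0) (s3 := 4) (j0 := 3) (θ' := 46)
        htop (by decide) hup hupS (by decide) (by decide) (by decide) (by decide +kernel) (by decide +kernel) (by decide +kernel)
        (by decide) (by decide +kernel) hterms (by norm_num) (by decide) (by decide +kernel) (by decide +kernel) (by decide)
        (by decide +kernel) (by decide +kernel)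
        (by decide) (by decide) (by decide) (by decide +kernel) (by decide +kernel) (by decide +kernel)
        (by decide) (by decide +kernel) hterms2 (by simp) (Or.inl (by simp))
        (by decide) (by decide +kernel) (by decide +kernel) (by decide) (by decide +kernel)
        (by
          rw [show chevF4.cartan 0 4 = -((2 : ℕ) : ℤ) from by decide +kernel]
          exact pow_surj_of 2 (sq_inj_of hq) (by norm_num))
        (by decide) (by decide +kernel) (by decide +kernel) (by decide) (by decide +kernel) (by decide +kernel) hterms3 (by norm_num)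
        (fun a => xG_comm_nil hF (by decide) (by decide) (by decide +kernel) (by decide +kernel) (by decide +kernel) 1 a)
        hSub hs0 hx
  · rcases star_cases hF f H hHG hM (δ := 47) htop hpos hmax htop hpos (hcentT_of hF htop hmax hpos)
      (fun h => absurd rfl h) (fun k h1 h2 h3 _ => cov_ns hq k h1 h2 h3) hStar with ⟨s0, hs0, hx⟩ | ⟨h, -⟩
    · exact caseA hs0 hx
    · exact absurd rfl h


theorem etab : ETab R chevF4 X 3 46 where
  hj0 := by decide
  h1 := by decide
  chain2 := by decide +kernel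
  n3 := by decide +kernel
  n4 := by decide +kernel
  rc := by decide +kernel
  pos := by decide +kernel
  hb1 := by decide
  hb1N := by decide +kernel
  chain1 := by decide +kernel
  chain1' := by decide +kernel
  chain0 := by decide +kernel
  n1 := by decide +kernel
  n2 := by decide +kernel
  comm := by decide +kernel
  comm0 := by decide +kernel
  comm1 := by decide +kernel
  comm2 := by decide +kernel
  wf0 := by decide +kernel
  n5 := by decide
  n6 := by decide +kernel
  n7 := by decide +kernel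
  n8 := by decide +kernel

theorem hcart0 : 0 < chevF4.cartan 3 47 := by decide +kernel
theorem hcart : ∀ j < chevF4.rank, j ≠ 3 → chevF4.cartan j 47 = 0 := by decide +kernel

theorem hC : ChainT chevF4 (fun r => chevF4.isLong r = true) := by
  unfold ChainT
  decide +kernel

theorem hdown : ∀ r < chevF4.nroots, chevF4.isLong r = true → r ≠ 0 → ∃ i < chevF4.rank, X.wf i r < r ∧ chevF4.isLong (X.wf i r) = true := by decide +kernel

/-- The dichotomy. -/
theorem dich {F : Type*} [Field F] [Fintype F] {p : ℕ} [Fact p.Prime] [CharP F p] (f : F ≃+* F) (hSub : SubHyp f)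
    (H : Subgroup (GL chevF4.Idx F)) (hHG : H ≤ chevF4.group F)
    (hM : ∀ g ∈ chevF4.group F, glMap chevF4 f g = g → g ∈ H) :
    (∀ x ∈ H, glMap chevF4 f x = x) ∨ H = chevF4.group F := by
  by_cases hStar : ∃ u ∈ H, u ∈ chevF4.posUnipotent F ∧ glMap chevF4 f u ≠ u
  · right
    exact eq_group_of_all hF H hHG (part_one f H hHG hM hSub hStar)
  · left
    push Not at hStar
    intro x hx
    by_cases hp : p = 2
    · subst hp
      exact two_of_roots hF f H hHG hM hStar hT2 htop (s := 44) (by decide) (fun g hg he => InvF4.no_conj_ls hg he) hx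
    · have h2 : (2 : F) ≠ 0 := by
        intro h
        have h3 : ((2 : ℕ) : F) = 0 := by exact_mod_cast h
        have h4 := (CharP.cast_eq_zero_iff F p 2).1 h3
        exact hp ((Nat.prime_dvd_prime_iff_eq (Fact.out) Nat.prime_two).1 h4)
      exact odd_generic hF (ChevMonoN.mono_F4) h2 etab htop hmax hpos hbot (by decide) hT2 hC hdown
        hup_all (by decide +kernel) hcart0 hcart f H hHG hM hStar hx

end Cfsg.Agent.Lib.ChevSub.DatF4
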