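import Mathlib
import Cfsg.Agent.Lib.ChevSub.PartOne
import Cfsg.Agent.Lib.Chev.RelG2
import Cfsg.Agent.Lib.Chev.RootG2
import Cfsg.Agent.Lib.ChevInv.InvG2

/-!
# The overgroup dichotomy in type G2
-/

set_option autoImplicit false
set_option maxRecDepth 100000
set_option linter.unusedSectionVars false
set_option linter.unusedVariables false
set_option linter.unnecessarySimpa false

namespace Cfsg.Agent.Lib.ChevSub.DatG2

open Cfsg Cfsg.Lie Matrix Cfsg.Agent.Lib.Chev Cfsg.Agent.Lib.Chev.Full
open Cfsg.Agent.Lib.ChevTransfer Cfsg.Agent.Lib.ChevAut.SubField Cfsg.Agent.Lib.ChevInv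
open Cfsg.Agent.Lib.ChevAut.ParabFit
open Cfsg.Agent.Lib.ChevSub Cfsg.Agent.Lib.Chev.TabG2 Cfsg.Agent.Lib.Chev.RootG2T

theorem hF : Full T X R chevG2 := ⟨RelG2.checks, RootG2.checks⟩

theorem htop : 11 < chevG2.nroots := by decide
theorem hpos : R.N ≤ 11 := by decide +kernel
theorem hmax : ∀ s < chevG2.nroots, s ≤ 11 := by
  intro s hs
  have : s < 12 := hs
  omega
theorem hbot : chevG2.neg 11 = 0 := by decide +kernel
theorem hT2 : T2Tab R chevG2 := T2_of_wf hF (by decide +kernel)

def rows : List RowE := [(6, 7, 8, 0, 3, -1), (7, 6, 8, 0, -1, 3), (10, 6, 11, 0, -1, 1)]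

theorem rows_ok : ∀ e ∈ rows, RowGood R chevG2 e := by decide +kernel

theorem rows_cov : ∀ k < chevG2.nroots, R.N ≤ k → (k ≠ 11 ∧ k ≠ 9 ∧ k ≠ 8) → ∃ e ∈ rows, e.1 = k := by decide +kernel

theorem rowA : RowVal R chevG2 (8, 9, 11, 0, 1, -1) (3) := by decide +kernel
theorem rowB : RowVal R chevG2 (8, 7, 9, 0, 2, -2) (4) := by decide +kernel

theorem rowD : RowVal R chevG2 (9, 7, 10, 0, -1, 1) (-3) := by decide +kernel

theorem cov_s {F : Type*} [Field F] : ∀ k, R.N ≤ k → k < chevG2.nroots → k ≠ 11 → k ≠ 9 →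
    ∃ β m i N' M', RowOK R chevG2 k β m i N' M' ∧ ((rowZ chevG2 k β i N' M' : ℤ) : F) ≠ 0 := by
  intro k h1 h2 h3 h4
  by_cases hk : k = 8
  · subst hk
    exact cov_two (F := F) rowA rowB rfl (a := -1) (b := 1) (by norm_num)
  · exact cov_of_rows rows_ok (rows_cov k h2 h1 ⟨h3, h4, hk⟩)

theorem cov_ns {F : Type*} [Field F] (hq : (3 : F) ≠ 0) : ∀ k, R.N ≤ k → k < chevG2.nroots → k ≠ 11 →
    ∃ β m i N' M', RowOK R chevG2 k β m i N' M' ∧ ((rowZ chevG2 k β i N' M' : ℤ) : F) ≠ 0 := by
  intro k h1 h2 h3
  by_cases hk : k = 9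
  · subst hk
    refine cov_of_val (F := F) rowD ?_
    have e : (((-3 : ℤ) : ℤ) : F) = -(3 : F) := by push_cast; ring
    rw [e]
    exact neg_ne_zero.2 hq
  · exact cov_s k h1 h2 h3 hk

theorem hup : ∀ r < chevG2.nroots, chevG2.isLong r = true → r ≠ 11 → ∃ i < chevG2.rank, r < X.wf i r ∧ chevG2.isLong (X.wf i r) = true := by decide +kernel
theorem hupS : ∀ r < chevG2.nroots, ¬ chevG2.isLong r = true → r ≠ 9 → ∃ i < chevG2.rank, r < X.wf i r ∧ ¬ chevG2.isLong (X.wf i r) = true := by decide +kernel
theorem hup_all : ∀ r < chevG2.nroots, chevG2.isLong r = true → ∀ i < chevG2.rank, chevG2.isLong (X.wf i r) = true := by decide +kernel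

theorem hterms : chevG2.commTerms 0 6 = [(1, 1, 1, 1)] := by decide +kernel

theorem hterms2 : chevG2.commTerms 2 7 = [(3, -2, 1, 1), (0, -3, 2, 1), (5, 3, 1, 2)] := by decide +kernel
theorem hterms3 : chevG2.commTerms (chevG2.simple 1) 10 = [(11, 1, 1, 1)] := by decide +kernel


theorem part_one {F : Type*} [Field F] [Finite F] (f : F ≃+* F) (H : Subgroup (GL chevG2.Idx F)) (hHG : H ≤ chevG2.group F)
    (hM : ∀ g ∈ chevG2.group F, glMap chevG2 f g = g → g ∈ H) (hSub : SubHyp f)
    (hStar : ∃ u ∈ H, u ∈ chevG2.posUnipotent F ∧ glMap chevG2 f u ≠ u) :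
    ∀ r < chevG2.nroots, ∀ t : F, hF.c.xG r t ∈ H := by
  have caseA : ∀ {s0 : F}, f s0 ≠ s0 → hF.c.xG 11 s0 ∈ H → ∀ r < chevG2.nroots, ∀ t : F, hF.c.xG r t ∈ H := by
    intro s0 hs0 hx
    exact case_A hF f H hM (L := fun r => chevG2.isLong r = true) (top := 11) (δS := 9) (r := 0) (s := 6) (m := 1) (j := 1) (s1 := 3)
      htop (by decide) hup hupS (by decide) (by decide) (by decide) (by decide +kernel) (by decide +kernel) (by decide +kernel)
      (by decide) (by decide +kernel) hterms (by norm_num) (by decide) (by decide +kernel) (by decide +kernel) (by decide)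
      (by decide +kernel) (by decide +kernel) hSub hs0 hx
  by_cases hq : (3 : F) = 0
  · have hq' : (((3 : ℕ) : ℕ) : F) = 0 := by exact_mod_cast hq
    rcases star_cases hF f H hHG hM (δ := 9) htop hpos hmax (by decide) (by decide +kernel) (hcentT_of hF htop hmax hpos)
      (fun _ => hcentD_of hF (by decide) (by decide +kernel) hq' (by decide +kernel)) cov_s hStar with
        ⟨s0, hs0, hx⟩ | ⟨-, s0, c0, hs0, hx⟩
    · exact caseA hs0 hx
    · exact case_B hF f H hM (L := fun r => chevG2.isLong r = true) (top := 11) (δ := 9) (r := 0) (s := 6) (m := 1) (j := 1) (s1 := 3)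
        (r2 := 2) (s2 := 7) (m2 := 3) (j2 := 0) (s3 := 1) (j0 := 1) (θ' := 10)
        htop (by decide) hup hupS (by decide) (by decide) (by decide) (by decide +kernel) (by decide +kernel) (by decide +kernel)
        (by decide) (by decide +kernel) hterms (by norm_num) (by decide) (by decide +kernel) (by decide +kernel) (by decide)
        (by decide +kernel) (by decide +kernel)
        (by decide) (by decide) (by decide) (by decide +kernel) (by decide +kernel) (by decide +kernel)
        (by decide) (by decide +kernel) hterms2 (by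
        intro c hc
        simp only [List.mem_cons, List.not_mem_nil, or_false] at hc
        rcases hc with rfl | rfl
        · show ((-3 : ℤ) : F) = 0
          have e : (((-3 : ℤ) : ℤ) : F) = -1 * (3 : F) := by push_cast; ring
          rw [e, hq, mul_zero]
        · show ((3 : ℤ) : F) = 0
          have e : (((3 : ℤ) : ℤ) : F) = 1 * (3 : F) := by push_cast; ring
          rw [e, hq, mul_zero]) (Or.inl (by
        have e : (((-2 : ℤ) : ℤ) : F) = 1 + ((-3 : ℤ) : F) := by push_cast; ring
        have e2 : (((-3 : ℤ) : ℤ) : F) = -1 * (3 : F) := by push_cast; ring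
        rw [e, e2, hq, mul_zero, add_zero]))
        (by decide) (by decide +kernel) (by decide +kernel) (by decide) (by decide +kernel)
        (by
          rw [show chevG2.cartan 0 1 = -((3 : ℕ) : ℤ) from by decide +kernel]
          exact pow_surj_of 3 (cube_inj_of hq) (by norm_num))
        (by decide) (by decide +kernel) (by decide +kernel) (by decide) (by decide +kernel) (by decide +kernel) hterms3 (by norm_num)
        (fun a => xG_comm_nil hF (by decide) (by decide) (by decide +kernel) (by decide +kernel) (by decide +kernel) 1 a)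
        hSub hs0 hx
  · rcases star_cases hF f H hHG hM (δ := 11) htop hpos hmax htop hpos (hcentT_of hF htop hmax hpos)
      (fun h => absurd rfl h) (fun k h1 h2 h3 _ => cov_ns hq k h1 h2 h3) hStar with ⟨s0, hs0, hx⟩ | ⟨h, -⟩
    · exact caseA hs0 hx
    · exact absurd rfl h


theorem etab : ETab R chevG2 X 1 10 where
  hj0 := by decide
  h1 := by decide
  chain2 := by decide +kernel
  n3 := by decide +kernel
  n4 := by decide +kernel
  rc := by decide +kernel
  pos := by decide +kernel
  hb1 := by decide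
  hb1N := by decide +kernel
  chain1 := by decide +kernel
  chain1' := by decide +kernel
  chain0 := by decide +kernel
  n1 := by decide +kernel
  n2 := by decide +kernel
  comm := by decide +kernel
  comm0 := by decide +kernel
  comm1 := by decide +kernel
  comm2 := by decide +kernel
  wf0 := by decide +kernel
  n5 := by decide
  n6 := by decide +kernel
  n7 := by decide +kernel
  n8 := by decide +kernel

theorem hcart0 : 0 < chevG2.cartan 1 11 := by decide +kernel
theorem hcart : ∀ j < chevG2.rank, j ≠ 1 → chevG2.cartan j 11 = 0 := by decide +kernel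

theorem hC : ChainT chevG2 (fun r => chevG2.isLong r = true) := by
  unfold ChainT
  decide +kernel

theorem hdown : ∀ r < chevG2.nroots, chevG2.isLong r = true → r ≠ 0 → ∃ i < chevG2.rank, X.wf i r < r ∧ chevG2.isLong (X.wf i r) = true := by decide +kernel

/-- The dichotomy. -/
theorem dich {F : Type*} [Field F] [Fintype F] {p : ℕ} [Fact p.Prime] [CharP F p] (f : F ≃+* F) (hSub : SubHyp f)
    (H : Subgroup (GL chevG2.Idx F)) (hHG : H ≤ chevG2.group F)
    (hM : ∀ g ∈ chevG2.group F, glMap chevG2 f g = g → g ∈ H) :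
    (∀ x ∈ H, glMap chevG2 f x = x) ∨ H = chevG2.group F := by
  by_cases hStar : ∃ u ∈ H, u ∈ chevG2.posUnipotent F ∧ glMap chevG2 f u ≠ u
  · right
    exact eq_group_of_all hF H hHG (part_one f H hHG hM hSub hStar)
  · left
    push Not at hStar
    intro x hx
    by_cases hp : p = 2
    · subst hp
      exact two_of_roots hF f H hHG hM hStar hT2 htop (s := 9) (by decide) (fun g hg he => InvG2.no_conj_ls hg he) hx
    · have h2 : (2 : F) ≠ 0 := by
        intro h
        have h3 : ((2 : ℕ) : F) = 0 := by exact_mod_cast h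
        have h4 := (CharP.cast_eq_zero_iff F p 2).1 h3
        exact hp ((Nat.prime_dvd_prime_iff_eq (Fact.out) Nat.prime_two).1 h4)
      exact odd_generic hF (ChevMonoN.mono_G2) h2 etab htop hmax hpos hbot (by decide) hT2 hC hdown
        hup_all (by decide +kernel) hcart0 hcart f H hHG hM hStar hx

end Cfsg.Agent.Lib.ChevSub.DatG2
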