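import Mathlib
import Cfsg.Agent.Lib.ChevSub.PartOne

/-!
# Assembly: the field lemmas and the reduction to the dichotomy
-/

set_option autoImplicit false
set_option linter.unusedSectionVars false
set_option linter.unusedVariables false
set_option linter.unnecessarySimpa false

namespace Cfsg.Agent.Lib.ChevSub.Final

open Cfsg Cfsg.Lie Matrix Cfsg.Agent.Lib.Chev Cfsg.Agent.Lib.Chev.Full
open Cfsg.Agent.Lib.ChevTransfer Cfsg.Agent.Lib.ChevAut.SubField
open Cfsg.Agent.Lib.ChevSub

/-- The quadratic span is everything under the subfield hypothesis. -/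
theorem hK_of_sub {F : Type*} [Field F] (f : F ≃+* F) (hSub : SubHyp f) (c : F) (h2 : c ^ 2 = -1)
    (hc : f c ≠ c) (z : F) : ∃ α β : F, f α = α ∧ f β = β ∧ z = α + β * c := by
  let V : AddSubgroup F :=
    { carrier := {z | ∃ α β : F, f α = α ∧ f β = β ∧ z = α + β * c}
      add_mem' := by
        rintro _ _ ⟨α, β, h1, h3, rfl⟩ ⟨α', β', h1', h3', rfl⟩
        refine ⟨α + α', β + β', by rw [map_add, h1, h1'], by rw [map_add, h3, h3'], by ring⟩
      zero_mem' := ⟨0, 0, map_zero f, map_zero f, by simp⟩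
      neg_mem' := by
        rintro _ ⟨α, β, h1, h3, rfl⟩
        refine ⟨-α, -β, by rw [map_neg, h1], by rw [map_neg, h3], by ring⟩ }
  have hV : V = ⊤ := by
    refine hSub V ?_ ?_ c ⟨0, 1, map_zero f, map_one f, by simp⟩ hc
    · intro x hx
      exact ⟨x, 0, hx, map_zero f, by simp⟩
    · rintro _ ⟨α, β, h1, h3, rfl⟩ _ ⟨α', β', h1', h3', rfl⟩
      refine ⟨α * α' - β * β', α * β' + β * α', by simp [h1, h1', h3, h3'], by simp [h1, h1', h3, h3'], ?_⟩
      have e : (α + β * c) * (α' + β' * c) = α * α' + (α * β' + β * α') * c + β * β' * c ^ 2 := by ring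
      rw [e, h2]
      ring
  have hz : z ∈ V := by
    rw [hV]
    trivial
  exact hz

section field

variable {K : Type*} [Field K] [Fintype K] (p : ℕ) [Fact p.Prime] [CharP K p] (a r : ℕ)

/-- The power map as a ring automorphism. -/
noncomputable def sig : K ≃+* K :=
  RingEquiv.ofBijective (iterateFrobenius K p a)
    (Finite.injective_iff_bijective.1 (iterateFrobenius K p a).injective)

theorem sig_apply (x : K) : sig p a x = x ^ (p ^ a) := rfl

/-- The fixed subfield. -/
noncomputable def F0 : Subfield K := RingHom.eqLocusField (sig p a : K ≃+* K).toRingHom (RingHom.id K)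

theorem mem_F0 {x : K} : x ∈ F0 (K := K) p a ↔ x ^ (p ^ a) = x := Iff.rfl

theorem card_F0 (ha : 1 ≤ a) (hr : 0 < r) (hK : Fintype.card K = (p ^ a) ^ r) :
    Nat.card (F0 (K := K) p a) = p ^ a := by
  have hp : p.Prime := Fact.out
  have hq1 : 1 < p ^ a := Nat.one_lt_pow (by omega) hp.one_lt
  set q := p ^ a with hq
  have hcardU : Nat.card Kˣ = q ^ r - 1 := by
    rw [Nat.card_units, Nat.card_eq_fintype_card, hK]
  have hdvd : q - 1 ∣ q ^ r - 1 := by
    simpa using Nat.sub_dvd_pow_sub_pow q 1 r
  have hker : Nat.card (powMonoidHom (q - 1) : Kˣ →* Kˣ).ker = q - 1 := by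
    rw [IsCyclic.card_powMonoidHom_ker, hcardU]
    exact Nat.gcd_eq_right hdvd
  have hmem : ∀ u : (F0 (K := K) p a)ˣ, (Units.map ((F0 (K := K) p a).subtype : _ →* K) u) ∈
      (powMonoidHom (q - 1) : Kˣ →* Kˣ).ker := by
    intro u
    rw [MonoidHom.mem_ker, powMonoidHom_apply]
    apply Units.ext
    have h1 : ((u : F0 (K := K) p a) : K) ^ q = ((u : F0 (K := K) p a) : K) := (u : F0 (K := K) p a).2
    have h2 : ((u : F0 (K := K) p a) : K) ≠ 0 := by
      intro h
      exact u.ne_zero (Subtype.ext h)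
    have h3 : ((u : F0 (K := K) p a) : K) ^ (q - 1) * ((u : F0 (K := K) p a) : K) =
        1 * ((u : F0 (K := K) p a) : K) := by
      rw [← pow_succ, Nat.sub_add_cancel (by omega), h1, one_mul]
    have h4 := mul_right_cancel₀ h2 h3
    simpa using h4
  have hbij : Function.Bijective (fun u : (F0 (K := K) p a)ˣ =>
      (⟨Units.map ((F0 (K := K) p a).subtype : _ →* K) u, hmem u⟩ : (powMonoidHom (q - 1) : Kˣ →* Kˣ).ker)) := by
    constructor
    · intro u v h
      apply Units.ext
      apply Subtype.ext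
      have := congrArg (fun w : (powMonoidHom (q - 1) : Kˣ →* Kˣ).ker => ((w.1 : Kˣ) : K)) h
      simpa using this
    · rintro ⟨v, hv⟩
      have h1 : (v : K) ^ (q - 1) = 1 := by
        have h2 : v ^ (q - 1) = 1 := hv
        have := congrArg (fun w : Kˣ => (w : K)) h2
        simpa using this
      have h2 : (v : K) ∈ F0 (K := K) p a := by
        show (v : K) ^ q = v
        calc (v : K) ^ q = (v : K) ^ (q - 1 + 1) := by rw [Nat.sub_add_cancel (by omega)]
          _ = v := by rw [pow_succ, h1, one_mul]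
      have h3 : (⟨(v : K), h2⟩ : F0 (K := K) p a) ≠ 0 := by
        intro h
        exact v.ne_zero (congrArg Subtype.val h)
      refine ⟨Units.mk0 _ h3, ?_⟩
      apply Subtype.ext
      apply Units.ext
      rfl
  have h5 := Nat.card_eq_of_bijective _ hbij
  rw [hker, Nat.card_units] at h5
  have h6 : 0 < Nat.card (F0 (K := K) p a) := Nat.card_pos
  omega

/-- The subfield hypothesis for a prime degree. -/
theorem subHyp (ha : 1 ≤ a) (hr : r.Prime) (hK : Fintype.card K = (p ^ a) ^ r) :
    SubHyp (sig p a : K ≃+* K) := by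
  intro V hfix hmul s hs hne
  have hp : p.Prime := Fact.out
  have hq1 : 1 < p ^ a := Nat.one_lt_pow (by omega) hp.one_lt
  have h1V : (1 : K) ∈ V := hfix 1 (map_one _)
  have hpow : ∀ (x : K), x ∈ V → ∀ n : ℕ, x ^ n ∈ V := by
    intro x hx n
    induction n with
    | zero => simpa using h1V
    | succ n ih =>
      rw [pow_succ]
      exact hmul _ ih _ hx
  have hinv : ∀ x ∈ V, x⁻¹ ∈ V := by
    intro x hx
    by_cases h0 : x = 0
    · subst h0
      simpa using V.zero_mem
    · have hc : 2 ≤ Fintype.card K := Fintype.one_lt_card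
      have e : x⁻¹ = x ^ (Fintype.card K - 2) := by
        have h3 : x * x ^ (Fintype.card K - 2) = 1 := by
          rw [← pow_succ', show Fintype.card K - 2 + 1 = Fintype.card K - 1 by omega]
          exact FiniteField.pow_card_sub_one_eq_one x h0
        exact (eq_inv_of_mul_eq_one_right h3).symm
      rw [e]
      exact hpow x hx _
  let L : Subfield K :=
    { carrier := V
      mul_mem' := fun {a b} ha hb => hmul a ha b hb
      one_mem' := h1V
      add_mem' := fun {a b} ha hb => V.add_mem ha hb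
      zero_mem' := V.zero_mem
      neg_mem' := fun {a} ha => V.neg_mem ha
      inv_mem' := fun a ha => hinv a ha }
  let Vm : Submodule (F0 (K := K) p a) K :=
    { carrier := V
      add_mem' := fun {a b} ha hb => V.add_mem ha hb
      zero_mem' := V.zero_mem
      smul_mem' := fun c x hx => hmul _ (hfix _ c.2) _ hx }
  have h1 : Nat.card K = Nat.card L ^ Module.finrank L K := Module.natCard_eq_pow_finrank
  have h2 : Nat.card Vm = Nat.card (F0 (K := K) p a) ^ Module.finrank (F0 (K := K) p a) Vm :=
    Module.natCard_eq_pow_finrank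
  have h3 : Nat.card Vm = Nat.card L := rfl
  rw [card_F0 p a r ha hr.pos hK] at h2
  set d := Module.finrank L K with hd
  set e := Module.finrank (F0 (K := K) p a) Vm with he
  have h4 : (p ^ a) ^ r = (p ^ a) ^ (e * d) := by
    rw [← hK, ← Nat.card_eq_fintype_card, h1, ← h3, h2, pow_mul]
  have h5 : r = e * d := Nat.pow_right_injective (by omega) h4
  rcases (Nat.prime_mul_iff.1 (h5 ▸ hr)) with ⟨-, h6⟩ | ⟨-, h6⟩
  · -- the degree of `K` over `L` is one
    rw [h6, pow_one] at h1
    have hb : Function.Bijective (fun x : L => (x : K)) :=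
      Function.Injective.bijective_of_nat_card_le Subtype.val_injective h1.le
    ext z
    simp only [AddSubgroup.mem_top, iff_true]
    obtain ⟨y, rfl⟩ := hb.2 z
    exact y.2
  · -- `V` is the fixed field
    exfalso
    rw [h6, pow_one] at h2
    have hc : Nat.card Vm ≤ Nat.card (F0 (K := K) p a) := by
      rw [h2, card_F0 p a r ha hr.pos hK]
    have hb : Function.Bijective (fun x : F0 (K := K) p a => (⟨x, hfix _ x.2⟩ : Vm)) :=
      Function.Injective.bijective_of_nat_card_le (by
        intro x y h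
        exact Subtype.ext (congrArg (fun w : Vm => (w : K)) h)) hc
    obtain ⟨y, hy⟩ := hb.2 ⟨s, hs⟩
    have e : (y : K) = s := congrArg (fun w : Vm => (w : K)) hy
    apply hne
    rw [← e]
    exact y.2

/-- Non-fixed elements exist. -/
theorem exists_moved (ha : 1 ≤ a) (hr : r.Prime) (hK : Fintype.card K = (p ^ a) ^ r) :
    ∃ s : K, sig p a s ≠ s := by
  by_contra hcon
  push Not at hcon
  have hp : p.Prime := Fact.out
  have hq1 : 1 < p ^ a := Nat.one_lt_pow (by omega) hp.one_lt
  have h1 := card_F0 p a r ha hr.pos hK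
  have h2 : Nat.card (F0 (K := K) p a) = Nat.card K := by
    apply Nat.card_congr
    exact Equiv.subtypeUnivEquiv (fun x => hcon x)
  have h4 : Nat.card K = (p ^ a) ^ r := by rw [Nat.card_eq_fintype_card, hK]
  rw [h1, h4] at h2
  have h3 : (p ^ a) ^ 1 < (p ^ a) ^ r := Nat.pow_lt_pow_right hq1 hr.one_lt
  rw [pow_one] at h3
  omega

/-- The reduction: a dichotomy for overgroups yields the maximality statement. -/
theorem final_of_dich {T : Tabs} {X : Extra} {R : RootTab} {D : ChevalleyDatum} (hF : Full T X R D)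
    (h0 : 0 < D.nroots) (ha : 1 ≤ a) (hr : r.Prime) (hK : Fintype.card K = (p ^ a) ^ r)
    (M : Subgroup (GL D.Idx K))
    (hM : ∀ g : GL D.Idx K, g ∈ M ↔ g ∈ D.group K ∧
      ∀ i j : D.Idx, ((g : Matrix D.Idx D.Idx K) i j) ^ (p ^ a) = (g : Matrix D.Idx D.Idx K) i j)
    (hdich : ∀ H : Subgroup (GL D.Idx K), H ≤ D.group K →
      (∀ g ∈ D.group K, glMap D (sig p a : K ≃+* K) g = g → g ∈ H) →
      (∀ x ∈ H, glMap D (sig p a : K ≃+* K) x = x) ∨ H = D.group K) :
    M ≠ D.group K ∧ ∀ H : Subgroup (GL D.Idx K), M ≤ H → H ≤ D.group K → H = M ∨ H = D.group K := by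
  have hfix : ∀ g : GL D.Idx K, glMap D (sig p a : K ≃+* K) g = g ↔
      ∀ i j : D.Idx, ((g : Matrix D.Idx D.Idx K) i j) ^ (p ^ a) = (g : Matrix D.Idx D.Idx K) i j := by
    intro g
    constructor
    · intro h i j
      have h1 := congrArg (fun w : GL D.Idx K => (w : Matrix D.Idx D.Idx K) i j) h
      simpa only [glMap_val, Matrix.map_apply, sig_apply] using h1
    · intro h
      apply Units.ext
      ext i j
      rw [glMap_val, Matrix.map_apply, sig_apply]
      exact h i j
  constructor
  · intro h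
    obtain ⟨s, hs⟩ := exists_moved (K := K) p a r ha hr hK
    have h1 : hF.c.xG 0 s ∈ M := by
      rw [h]
      exact hF.c.xG_mem_group h0 s
    have h2 := (hfix _).2 ((hM _).1 h1).2
    rw [sig_xG hF] at h2
    exact hs (hF.xG_param_inj h0 h2)
  · intro H hMH hHG
    rcases hdich H hHG (fun g hg hgf => hMH ((hM g).2 ⟨hg, (hfix g).1 hgf⟩)) with h | h
    · left
      apply le_antisymm _ hMH
      intro x hx
      exact (hM x).2 ⟨hHG hx, (hfix x).1 (h x hx)⟩
    · exact Or.inr h

end field

end Cfsg.Agent.Lib.ChevSub.Final
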